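import Mathlib
import Groth.Agent.H51.FlatValLift
import Groth.Agent.H13.StalkMapTo
import Groth.Agent.H20.ComplMap
import Groth.Agent.H23.GRMain
import Groth.Agent.H23.PolyGRing2

/-!
# The morphism `Spec O_{S,s}^∧ ⟶ S` (helper78, for S7238)
-/

set_option autoImplicit false
set_option linter.style.haveILetI false
universe u
open AlgebraicGeometry CategoryTheory CategoryTheory.Limits IsLocalRing
open Groth.Agent.H13.StalkMapTo

namespace Groth.Agent.H78.CAW

section

variable {S : Scheme.{u}} [IsLocallyNoetherian S] (s : S)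

/-- the completed local ring -/
abbrev Ahat : Type u :=
  AdicCompletion (maximalIdeal (S.presheaf.stalk s)) (S.presheaf.stalk s)

/-- `Spec O_{S,s}^∧ ⟶ S` -/
noncomputable def dHom : Spec (CommRingCat.of (Ahat s)) ⟶ S :=
  Spec.map (CommRingCat.ofHom (algebraMap (S.presheaf.stalk s) (Ahat s))) ≫ S.fromSpecStalk s

instance : IsNoetherianRing (Ahat s) := Groth.Agent.H20.isNoetherianRing_adicCompletion _

instance : IsLocalHom (CommRingCat.ofHom (algebraMap (S.presheaf.stalk s) (Ahat s))).hom :=
  inferInstanceAs (IsLocalHom (algebraMap (S.presheaf.stalk s) (Ahat s)))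

theorem dHom_closedPoint : dHom s (closedPoint (Ahat s)) = s := by
  have key := (SpecToEquivOfLocalRing S (CommRingCat.of (Ahat s))).apply_symm_apply
    ⟨s, CommRingCat.ofHom (algebraMap (S.presheaf.stalk s) (Ahat s)), inferInstance⟩
  obtain ⟨h₁, -⟩ := SpecToEquivOfLocalRing_eq_iff.mp key
  exact h₁

theorem dHom_stalkClosedPointTo :
    Scheme.stalkClosedPointTo (dHom s) =
      (S.presheaf.stalkCongr (.of_eq (dHom_closedPoint s))).hom ≫
        CommRingCat.ofHom (algebraMap (S.presheaf.stalk s) (Ahat s)) := by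
  have key := (SpecToEquivOfLocalRing S (CommRingCat.of (Ahat s))).apply_symm_apply
    ⟨s, CommRingCat.ofHom (algebraMap (S.presheaf.stalk s) (Ahat s)), inferInstance⟩
  obtain ⟨h₁, h₂⟩ := SpecToEquivOfLocalRing_eq_iff.mp key
  exact h₂

instance flat_dHom : Flat (dHom s) := by
  have h1 : Flat (Spec.map (CommRingCat.ofHom (algebraMap (S.presheaf.stalk s) (Ahat s)))) := by
    rw [HasRingHomProperty.Spec_iff (P := @Flat)]
    change Module.Flat (S.presheaf.stalk s) (Ahat s)
    infer_instance
  have h2 : Flat (S.fromSpecStalk s) := Groth.Agent.H51.flat_fromSpecStalk S s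
  unfold dHom
  infer_instance

/-- `O_{S,s}^∧ → O_{D,d'}`, `D = Spec O_{S,s}^∧` -/
noncomputable def germHom (d' : Spec (CommRingCat.of (Ahat s))) :
    Ahat s →+* (Spec (CommRingCat.of (Ahat s))).presheaf.stalk d' :=
  ((Spec (CommRingCat.of (Ahat s))).presheaf.germ ⊤ d' trivial).hom.comp
    (Scheme.ΓSpecIso (CommRingCat.of (Ahat s))).inv.hom

theorem germHom_closedPoint :
    germHom s (closedPoint (Ahat s)) = (stalkClosedPointIso (CommRingCat.of (Ahat s))).inv.hom := by
  have h := ΓSpecIso_hom_stalkClosedPointIso_inv (CommRingCat.of (Ahat s))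
  have h' : (stalkClosedPointIso (CommRingCat.of (Ahat s))).inv =
      (Scheme.ΓSpecIso (CommRingCat.of (Ahat s))).inv ≫
        (Spec (CommRingCat.of (Ahat s))).presheaf.germ ⊤ (closedPoint (Ahat s)) trivial := by
    rw [← h, Iso.inv_hom_id_assoc]
  rw [h']
  rfl

theorem germHom_bijective (d' : Spec (CommRingCat.of (Ahat s))) (hd : d' = closedPoint (Ahat s)) :
    Function.Bijective (germHom s d') := by
  subst hd
  rw [germHom_closedPoint]
  exact ConcreteCategory.bijective_of_isIso (stalkClosedPointIso (CommRingCat.of (Ahat s))).inv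

instance isLocalHom_germHom (d' : Spec (CommRingCat.of (Ahat s))) [Fact (d' = closedPoint (Ahat s))] :
    IsLocalHom (germHom s d') := by
  have hd : d' = closedPoint (Ahat s) := Fact.out
  subst hd
  rw [germHom_closedPoint]
  exact isLocalHom_of_isIso (stalkClosedPointIso (CommRingCat.of (Ahat s))).inv

set_option backward.isDefEq.respectTransparency false in
theorem stalkMap_dHom_closedPoint :
    (dHom s).stalkMap (closedPoint (Ahat s)) =
      (S.presheaf.stalkCongr (.of_eq (dHom_closedPoint s))).hom ≫
        CommRingCat.ofHom (algebraMap (S.presheaf.stalk s) (Ahat s)) ≫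
          (stalkClosedPointIso (CommRingCat.of (Ahat s))).inv := by
  have h1 := dHom_stalkClosedPointTo s
  unfold Scheme.stalkClosedPointTo at h1
  rw [← Category.assoc, ← h1, Category.assoc, Iso.hom_inv_id, Category.comp_id]

set_option backward.isDefEq.respectTransparency false in
theorem stalkMapTo_dHom (d' : Spec (CommRingCat.of (Ahat s))) (hd : d' = closedPoint (Ahat s))
    (h : dHom s d' = s) :
    stalkMapTo (dHom s) d' s h = (germHom s d').comp (algebraMap (S.presheaf.stalk s) (Ahat s)) := by
  subst hd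
  ext a
  rw [stalkMapTo_apply, stalkMap_dHom_closedPoint, germHom_closedPoint]
  change (stalkClosedPointIso (CommRingCat.of (Ahat s))).inv.hom
    (algebraMap _ _ ((S.presheaf.stalkCongr _).hom.hom ((S.presheaf.stalkCongr _).inv.hom a))) = _
  have : (S.presheaf.stalkCongr (.of_eq h)).hom.hom ((S.presheaf.stalkCongr (.of_eq h)).inv.hom a) = a := by
    change ((S.presheaf.stalkCongr (.of_eq h)).inv ≫ (S.presheaf.stalkCongr (.of_eq h)).hom).hom a = a
    rw [Iso.inv_hom_id]; rfl
  rw [this]
  rfl

end

theorem map_maximalIdeal_of_bijective {R R' : Type*} [CommRing R] [CommRing R'] [IsLocalRing R]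
    [IsLocalRing R'] (e : R →+* R') (he : Function.Bijective e) :
    (maximalIdeal R).map e = maximalIdeal R' := by
  apply le_antisymm
  · rw [Ideal.map_le_iff_le_comap]
    intro x hx
    rw [Ideal.mem_comap, mem_maximalIdeal, mem_nonunits_iff] at *
    intro hu
    apply hx
    have h1 : IsUnit ((RingEquiv.ofBijective e he) x) := hu
    exact (isUnit_map_iff (RingEquiv.ofBijective e he) x).mp h1
  · intro y hy
    obtain ⟨x, rfl⟩ := he.2 y
    refine Ideal.mem_map_of_mem _ ?_
    rw [mem_maximalIdeal, mem_nonunits_iff] at *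
    exact fun hu => hy (hu.map e)

section

variable {S : Scheme.{u}} [IsLocallyNoetherian S] (s : S)

set_option backward.isDefEq.respectTransparency false in
theorem map_maximalIdeal_dHom (d' : Spec (CommRingCat.of (Ahat s)))
    (hd : d' = closedPoint (Ahat s)) :
    (maximalIdeal (S.presheaf.stalk (dHom s d'))).map ((dHom s).stalkMap d').hom =
      maximalIdeal ((Spec (CommRingCat.of (Ahat s))).presheaf.stalk d') := by
  subst hd
  rw [stalkMap_dHom_closedPoint, CommRingCat.hom_comp, CommRingCat.hom_comp, ← Ideal.map_map,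
    ← Ideal.map_map]
  rw [map_maximalIdeal_of_bijective _
    (ConcreteCategory.bijective_of_isIso (S.presheaf.stalkCongr _).hom)]
  have h2 : (maximalIdeal (S.presheaf.stalk s)).map
      (CommRingCat.ofHom (algebraMap (S.presheaf.stalk s) (Ahat s))).hom =
      maximalIdeal (Ahat s) := (AdicCompletion.maximalIdeal_eq_map).symm
  rw [h2]
  exact map_maximalIdeal_of_bijective _
    (ConcreteCategory.bijective_of_isIso (stalkClosedPointIso (CommRingCat.of (Ahat s))).inv)

theorem exists_sub_mem_maximalIdeal (z : Ahat s) :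
    ∃ a : S.presheaf.stalk s, z - algebraMap _ (Ahat s) a ∈ maximalIdeal (Ahat s) := by
  obtain ⟨k, hk⟩ := (AdicCompletion.residueField_map_bijective (S.presheaf.stalk s)).2
    (IsLocalRing.residue _ z)
  obtain ⟨a, rfl⟩ := IsLocalRing.residue_surjective k
  refine ⟨a, ?_⟩
  rw [← IsLocalRing.residue_eq_zero_iff, map_sub, sub_eq_zero]
  exact hk.symm

set_option backward.isDefEq.respectTransparency false in
theorem residueFieldMap_dHom_bijective (d' : Spec (CommRingCat.of (Ahat s)))
    (hd : d' = closedPoint (Ahat s)) :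
    Function.Bijective ((dHom s).residueFieldMap d') := by
  subst hd
  rw [bijective_residueFieldMap_iff]
  intro a'
  obtain ⟨z, rfl⟩ := (ConcreteCategory.bijective_of_isIso
    (stalkClosedPointIso (CommRingCat.of (Ahat s))).inv).2 a'
  obtain ⟨a, ha⟩ := exists_sub_mem_maximalIdeal s z
  refine ⟨(S.presheaf.stalkCongr (.of_eq (dHom_closedPoint s))).inv.hom a, ?_⟩
  rw [stalkMap_dHom_closedPoint]
  have h1 : ((S.presheaf.stalkCongr (.of_eq (dHom_closedPoint s))).hom ≫
      CommRingCat.ofHom (algebraMap (S.presheaf.stalk s) (Ahat s)) ≫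
        (stalkClosedPointIso (CommRingCat.of (Ahat s))).inv).hom
      ((S.presheaf.stalkCongr (.of_eq (dHom_closedPoint s))).inv.hom a) =
      (stalkClosedPointIso (CommRingCat.of (Ahat s))).inv.hom (algebraMap _ (Ahat s) a) := by
    have : (S.presheaf.stalkCongr (.of_eq (dHom_closedPoint s))).hom.hom
        ((S.presheaf.stalkCongr (.of_eq (dHom_closedPoint s))).inv.hom a) = a := by
      change ((S.presheaf.stalkCongr (.of_eq (dHom_closedPoint s))).inv ≫
        (S.presheaf.stalkCongr (.of_eq (dHom_closedPoint s))).hom).hom a = a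
      rw [Iso.inv_hom_id]; rfl
    change (stalkClosedPointIso (CommRingCat.of (Ahat s))).inv.hom (algebraMap _ (Ahat s)
      ((S.presheaf.stalkCongr (.of_eq (dHom_closedPoint s))).hom.hom
        ((S.presheaf.stalkCongr (.of_eq (dHom_closedPoint s))).inv.hom a))) = _
    rw [this]
  rw [h1, ← map_sub]
  rw [← map_maximalIdeal_of_bijective _
    (ConcreteCategory.bijective_of_isIso (stalkClosedPointIso (CommRingCat.of (Ahat s))).inv)]
  exact Ideal.mem_map_of_mem _ ha

theorem isGRing_stalk (d' : Spec (CommRingCat.of (Ahat s))) (hd : d' = closedPoint (Ahat s)) :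
    CAlg.IsGRing ((Spec (CommRingCat.of (Ahat s))).presheaf.stalk d') :=
  Groth.Agent.H23.PolyGRing.isGRing_of_surjective (Ahat s) _ (germHom s d')
    (germHom_bijective s d' hd).2 (Groth.Agent.H23.GR.isGRing_of_complete (Ahat s))

end

end Groth.Agent.H78.CAW
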