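import Mathlib
import Groth.Agent.H78.CAW.ComplBase
import Groth.Agent.S7202

set_option autoImplicit false
set_option linter.style.haveILetI false
set_option linter.unusedSectionVars false
universe u
open AlgebraicGeometry CategoryTheory CategoryTheory.Limits IsLocalRing

namespace Groth.Agent.H78.CAW

theorem stalkClosedPointTo_congr {X : Scheme.{u}} {R : CommRingCat.{u}} [IsLocalRing R]
    {k₁ k₂ : Spec R ⟶ X} (e : k₁ = k₂) :
    Scheme.stalkClosedPointTo k₁ =
      (X.presheaf.stalkCongr (.of_eq (by rw [e]))).hom ≫ Scheme.stalkClosedPointTo k₂ := by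
  subst e
  simp [TopCat.Presheaf.stalkCongr]

section

variable {S Z : Scheme.{u}} [IsLocallyNoetherian S] (s : S)

set_option backward.isDefEq.respectTransparency false in
/-- **Artin approximation for a point of a finite type `S`-scheme with values in the completion.** -/
theorem exists_etale_section (hG : CAlg.IsGRing (S.presheaf.stalk s)) (qZ : Z ⟶ S)
    [LocallyOfFiniteType qZ] (ζ : Spec (CommRingCat.of (Ahat s)) ⟶ Z) (hζ : ζ ≫ qZ = dHom s) :
    ∃ (V : Scheme.{u}) (v : V) (e : V ⟶ S) (γ : V ⟶ Z), Etale e ∧ e v = s ∧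
      Function.Bijective (e.residueFieldMap v) ∧ γ v = ζ (closedPoint (Ahat s)) ∧ γ ≫ qZ = e := by
  have hxy : (𝟙 S : S ⟶ S) s = qZ (ζ (closedPoint (Ahat s))) := by
    have h0 : (ζ ≫ qZ) (closedPoint (Ahat s)) = s := by rw [hζ]; exact dHom_closedPoint s
    exact h0.symm
  let φZ : Z.presheaf.stalk (ζ (closedPoint (Ahat s))) →+* Ahat s := (Scheme.stalkClosedPointTo ζ).hom
  have hloc : ∀ b ∈ maximalIdeal (Z.presheaf.stalk (ζ (closedPoint (Ahat s)))),
      φZ b ∈ (maximalIdeal (S.presheaf.stalk s)).map (algebraMap (S.presheaf.stalk s) (Ahat s)) := by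
    intro b hb
    rw [← AdicCompletion.maximalIdeal_eq_map]
    rw [mem_maximalIdeal, mem_nonunits_iff] at hb ⊢
    intro hu
    exact hb (isUnit_of_map_unit (Scheme.stalkClosedPointTo ζ).hom b hu)
  have hφ : φZ.comp ((qZ.stalkMap (ζ (closedPoint (Ahat s)))).hom.comp
      (S.presheaf.stalkCongr (Inseparable.of_eq hxy)).hom.hom) =
      (algebraMap (S.presheaf.stalk s) (Ahat s)).comp ((𝟙 S : S ⟶ S).stalkMap s).hom := by
    have e1 : qZ.stalkMap (ζ (closedPoint (Ahat s))) ≫ Scheme.stalkClosedPointTo ζ =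
        Scheme.stalkClosedPointTo (ζ ≫ qZ) := (Scheme.stalkClosedPointTo_comp ζ qZ).symm
    have e2 := stalkClosedPointTo_congr hζ
    have e3 := dHom_stalkClosedPointTo s
    have key : (S.presheaf.stalkCongr (Inseparable.of_eq hxy)).hom ≫
        qZ.stalkMap (ζ (closedPoint (Ahat s))) ≫ Scheme.stalkClosedPointTo ζ =
        (𝟙 S : S ⟶ S).stalkMap s ≫
          CommRingCat.ofHom (algebraMap (S.presheaf.stalk s) (Ahat s)) := by
      rw [e1, e2, e3, Scheme.Hom.stalkMap_id]
      refine Eq.trans ?_ (Category.id_comp _).symm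
      simp only [TopCat.Presheaf.stalkCongr_hom, TopCat.Presheaf.stalkSpecializes_comp_assoc]
      exact (congrArg (· ≫ CommRingCat.ofHom (algebraMap (S.presheaf.stalk s) (Ahat s)))
        (TopCat.Presheaf.stalkSpecializes_refl _ _)).trans (Category.id_comp _)
    have := congrArg CommRingCat.Hom.hom key
    exact this
  obtain ⟨V, e, v, hev, γ, hγv, h1, h2, h3, -⟩ :=
    Groth.Agent.S7202.result (𝟙 S) qZ s (ζ (closedPoint (Ahat s))) hxy hG φZ hφ hloc 1 le_rfl
  exact ⟨V, v, e, γ, h1, hev, h2, hγv, by rw [h3, Category.comp_id]⟩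

end

end Groth.Agent.H78.CAW
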