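import Mathlib
import Groth.Agent.H49.FibreStalk

/-!
# Residue fields and maximal ideals under base change (helper78, for S7238)

* `bijective_comp`, `bijective_of_comp`: residue field maps of composites.
* `exists_section`: for a pullback square `P = U ×_Z V` and a point `w` of `P` at which `V → Z`
  has trivial residue field extension, the point `Spec κ(fst w) → U` lifts to `P` through `w`.
* `residueFieldMap_surjective_of_isPullback`: then `κ(fst w) → κ(w)` is surjective.
* `map_maximalIdeal_eq_of_isPullback`: if moreover `m_z O_{V,v} = m_v` then `m_u O_{P,w} = m_w`.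
-/

set_option autoImplicit false
set_option linter.style.haveILetI false
universe u
open AlgebraicGeometry CategoryTheory CategoryTheory.Limits IsLocalRing

namespace Groth.Agent.H78.CAW

theorem residueFieldMap_injective {X Y : Scheme.{u}} (f : X ⟶ Y) (x : X) :
    Function.Injective (f.residueFieldMap x) := (f.residueFieldMap x).hom.injective

theorem bijective_comp {X Y Z : Scheme.{u}} (f : X ⟶ Y) (g : Y ⟶ Z) (x : X)
    (hf : Function.Bijective (f.residueFieldMap x))
    (hg : Function.Bijective (g.residueFieldMap (f x))) :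
    Function.Bijective ((f ≫ g).residueFieldMap x) := by
  rw [Scheme.residueFieldMap_comp]
  exact hf.comp hg

theorem bijective_of_comp {X Y Z : Scheme.{u}} (f : X ⟶ Y) (g : Y ⟶ Z) (x : X)
    (h : Function.Bijective ((f ≫ g).residueFieldMap x)) :
    Function.Bijective (f.residueFieldMap x) ∧ Function.Bijective (g.residueFieldMap (f x)) := by
  rw [Scheme.residueFieldMap_comp] at h
  have h' : Function.Bijective ((f.residueFieldMap x) ∘ (g.residueFieldMap (f x))) := h
  have h1 : Function.Surjective (f.residueFieldMap x) := Function.Surjective.of_comp h'.2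
  have hf : Function.Bijective (f.residueFieldMap x) := ⟨residueFieldMap_injective f x, h1⟩
  refine ⟨hf, residueFieldMap_injective g (f x), ?_⟩
  intro b
  obtain ⟨a, ha⟩ := h'.2 (f.residueFieldMap x b)
  exact ⟨a, hf.1 ha⟩


/-- the section of a base change through a point with trivial residue field extension -/
theorem exists_section {P U V Z : Scheme.{u}} {fst : P ⟶ U} {snd : P ⟶ V} {f : U ⟶ Z} {g : V ⟶ Z}
    (sq : IsPullback fst snd f g) (w : P)
    (hres : Function.Surjective (g.residueFieldMap (snd w))) :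
    ∃ (t : Spec (U.residueField (fst w)) ⟶ P)
      (ρ : V.residueField (snd w) ⟶ U.residueField (fst w)),
      t ≫ fst = U.fromSpecResidueField (fst w) ∧
      Spec.map (fst.residueFieldMap w) ≫ t = P.fromSpecResidueField w ∧
      t ≫ snd = Spec.map ρ ≫ V.fromSpecResidueField (snd w) ∧
      g.residueFieldMap (snd w) ≫ ρ =
        (Z.residueFieldCongr (show f (fst w) = g (snd w) by
          rw [← Scheme.Hom.comp_apply, ← Scheme.Hom.comp_apply, sq.w])).inv ≫
          f.residueFieldMap (fst w) := by
  have hbij : Function.Bijective (g.residueFieldMap (snd w)) :=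
    ⟨residueFieldMap_injective _ _, hres⟩
  have : IsIso (g.residueFieldMap (snd w)) := (ConcreteCategory.isIso_iff_bijective _).mpr hbij
  have hpt : f (fst w) = g (snd w) := by
    rw [← Scheme.Hom.comp_apply, ← Scheme.Hom.comp_apply, sq.w]
  let ρ : V.residueField (snd w) ⟶ U.residueField (fst w) :=
    inv (g.residueFieldMap (snd w)) ≫ (Z.residueFieldCongr hpt).inv ≫ f.residueFieldMap (fst w)
  have h1 : g.residueFieldMap (snd w) ≫ ρ =
      (Z.residueFieldCongr hpt).inv ≫ f.residueFieldMap (fst w) := by
    simp only [ρ, IsIso.hom_inv_id_assoc]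
  have compat : U.fromSpecResidueField (fst w) ≫ f =
      (Spec.map ρ ≫ V.fromSpecResidueField (snd w)) ≫ g := by
    rw [Category.assoc, ← Scheme.Hom.SpecMap_residueFieldMap_fromSpecResidueField,
      ← Scheme.Hom.SpecMap_residueFieldMap_fromSpecResidueField, ← Spec.map_comp_assoc]
    rw [h1, Spec.map_comp_assoc, Scheme.residueFieldCongr_inv,
      Scheme.residueFieldCongr_fromSpecResidueField]
  refine ⟨sq.lift _ _ compat, ρ, sq.lift_fst _ _ _, ?_, sq.lift_snd _ _ _, h1⟩
  apply sq.hom_ext
  · rw [Category.assoc, sq.lift_fst, Scheme.Hom.SpecMap_residueFieldMap_fromSpecResidueField]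
  · rw [Category.assoc, sq.lift_snd, ← Scheme.Hom.SpecMap_residueFieldMap_fromSpecResidueField,
      ← Spec.map_comp_assoc]
    congr 2
    have h2 : f.residueFieldMap (fst w) ≫ fst.residueFieldMap w =
        (Z.residueFieldCongr hpt).hom ≫ g.residueFieldMap (snd w) ≫ snd.residueFieldMap w := by
      rw [← Scheme.residueFieldMap_comp, ← Scheme.residueFieldMap_comp,
        Scheme.Hom.residueFieldMap_congr sq.w w]
      rfl
    simp only [ρ, Category.assoc, h2, Iso.inv_hom_id_assoc, IsIso.inv_hom_id_assoc]

/-- residue field extensions stay trivial after base change -/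
theorem residueFieldMap_surjective_of_isPullback {P U V Z : Scheme.{u}} {fst : P ⟶ U}
    {snd : P ⟶ V} {f : U ⟶ Z} {g : V ⟶ Z} (sq : IsPullback fst snd f g) (w : P)
    (hres : Function.Surjective (g.residueFieldMap (snd w))) :
    Function.Surjective (fst.residueFieldMap w) := by
  obtain ⟨t, -, -, ht2, -, -⟩ := exists_section sq w hres
  have key : ∀ (w' : P) (ψ : P.residueField w' ⟶ U.residueField (fst w)), w' = w →
      Spec.map (fst.residueFieldMap w) ≫ Spec.map ψ ≫ P.fromSpecResidueField w' =
        P.fromSpecResidueField w → Function.Surjective (fst.residueFieldMap w) := by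
    intro w' ψ hw h
    subst hw
    rw [← Spec.map_comp_assoc] at h
    have h' : Spec.map (ψ ≫ fst.residueFieldMap w') ≫ P.fromSpecResidueField w' =
        𝟙 _ ≫ P.fromSpecResidueField w' := by rw [h, Category.id_comp]
    rw [cancel_mono, ← Spec.map_id] at h'
    have h3 : ψ ≫ fst.residueFieldMap w' = 𝟙 _ := Spec.map_injective h'
    intro b
    refine ⟨ψ b, ?_⟩
    have := ConcreteCategory.congr_hom h3 b
    exact this
  obtain ⟨w', ψ, hψ⟩ : ∃ (w' : P) (ψ : P.residueField w' ⟶ U.residueField (fst w)),
      Spec.map ψ ≫ P.fromSpecResidueField w' = t :=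
    ⟨_, _, Scheme.descResidueField_stalkClosedPointTo_fromSpecResidueField
      (IsLocalRing.ResidueField (U.presheaf.stalk (fst w))) P t⟩
  have h5 : Spec.map (fst.residueFieldMap w) ≫ Spec.map ψ ≫ P.fromSpecResidueField w' =
      P.fromSpecResidueField w := by rw [hψ]; exact ht2
  have hw : w' = w := by
    have h4 : (Spec.map (fst.residueFieldMap w) ≫ Spec.map ψ ≫ P.fromSpecResidueField w') default =
        (P.fromSpecResidueField w) default := by rw [h5]
    rw [Scheme.Hom.comp_apply, Scheme.Hom.comp_apply, Scheme.fromSpecResidueField_apply,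
      Scheme.fromSpecResidueField_apply] at h4
    exact h4
  exact key w' ψ hw h5


open Groth.Agent.H49.FibreStalk in
/-- base change preserves `m_z O_v = m_v` at points with trivial residue field extension -/
theorem map_maximalIdeal_eq_of_isPullback {P U V Z : Scheme.{u}} {fst : P ⟶ U} {snd : P ⟶ V}
    {f : U ⟶ Z} {g : V ⟶ Z} (sq : IsPullback fst snd f g) (w : P)
    (hm : (maximalIdeal (Z.presheaf.stalk (g (snd w)))).map (g.stalkMap (snd w)).hom =
      maximalIdeal (V.presheaf.stalk (snd w)))
    (hres : Function.Surjective (g.residueFieldMap (snd w))) :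
    (maximalIdeal (U.presheaf.stalk (fst w))).map (fst.stalkMap w).hom =
      maximalIdeal (P.presheaf.stalk w) := by
  apply le_antisymm (fibreIdeal_le_maximalIdeal fst w)
  obtain ⟨t, ρ, ht1, -, ht3, hρ⟩ := exists_section sq w hres
  have hpt : f (fst w) = g (snd w) := by
    rw [← Scheme.Hom.comp_apply, ← Scheme.Hom.comp_apply, sq.w]
  let Q : CommRingCat.{u} := CommRingCat.of (P.presheaf.stalk w ⧸ fibreIdeal fst w)
  let φ : P.presheaf.stalk w ⟶ Q := CommRingCat.ofHom (Ideal.Quotient.mk (fibreIdeal fst w))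
  haveI : IsLocalHom φ.hom := IsLocalHom.of_surjective _ Ideal.Quotient.mk_surjective
  have hkill : ∀ a ∈ maximalIdeal (U.presheaf.stalk (fst w)),
      (φ.hom.comp (fst.stalkMap w).hom) a = 0 := fun a ha =>
    Ideal.Quotient.eq_zero_iff_mem.mpr (Ideal.mem_map_of_mem _ ha)
  let θQ : U.residueField (fst w) ⟶ Q :=
    CommRingCat.ofHom (Ideal.Quotient.lift _ (φ.hom.comp (fst.stalkMap w).hom) hkill)
  have hθQ : U.residue (fst w) ≫ θQ = fst.stalkMap w ≫ φ := by ext a; rfl
  -- the two maps `O_{V,v} → Q`
  have hLR : snd.stalkMap w ≫ φ = V.residue (snd w) ≫ ρ ≫ θQ := by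
    have h3 : g.stalkMap (snd w) ≫ snd.stalkMap w ≫ φ =
        g.stalkMap (snd w) ≫ V.residue (snd w) ≫ ρ ≫ θQ := by
      have e1 : g.stalkMap (snd w) ≫ V.residue (snd w) ≫ ρ ≫ θQ =
          (Z.presheaf.stalkCongr (.of_eq hpt.symm)).hom ≫ f.stalkMap (fst w) ≫
            fst.stalkMap w ≫ φ := by
        rw [← Scheme.residue_residueFieldMap_assoc, reassoc_of% hρ, Scheme.residueFieldCongr_inv,
          Scheme.residue_residueFieldCongr_assoc, Scheme.residue_residueFieldMap_assoc, hθQ]
      have e2 : g.stalkMap (snd w) ≫ snd.stalkMap w ≫ φ =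
          (Z.presheaf.stalkCongr (.of_eq hpt.symm)).hom ≫ f.stalkMap (fst w) ≫
            fst.stalkMap w ≫ φ := by
        rw [← Category.assoc, ← Scheme.Hom.stalkMap_comp,
          Scheme.Hom.stalkMap_congr_hom (snd ≫ g) (fst ≫ f) sq.w.symm w,
          Scheme.Hom.stalkMap_comp]
        rfl
      rw [e1, e2]
    ext r
    obtain ⟨k, hk⟩ := hres (V.residue (snd w) r)
    obtain ⟨a, rfl⟩ := Scheme.residue_surjective Z _ k
    have h4 : r - (g.stalkMap (snd w)).hom a ∈ maximalIdeal (V.presheaf.stalk (snd w)) := by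
      rw [← IsLocalRing.residue_eq_zero_iff, map_sub, sub_eq_zero]
      have := ConcreteCategory.congr_hom (Scheme.residue_residueFieldMap g (snd w)) a
      exact hk.symm.trans this
    have hRk : ∀ z ∈ maximalIdeal (V.presheaf.stalk (snd w)),
        (V.residue (snd w) ≫ ρ ≫ θQ).hom z = 0 := by
      intro z hz
      have : (V.residue (snd w)).hom z = 0 := (IsLocalRing.residue_eq_zero_iff z).mpr hz
      change θQ.hom (ρ.hom ((V.residue (snd w)).hom z)) = 0
      rw [this, map_zero, map_zero]
    have hLk : ∀ z ∈ maximalIdeal (V.presheaf.stalk (snd w)),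
        (snd.stalkMap w ≫ φ).hom z = 0 := by
      intro z hz
      rw [← hm] at hz
      have hle : (maximalIdeal (Z.presheaf.stalk (g (snd w)))).map (g.stalkMap (snd w)).hom ≤
          RingHom.ker (snd.stalkMap w ≫ φ).hom := by
        rw [Ideal.map_le_iff_le_comap]
        intro b hb
        rw [Ideal.mem_comap, RingHom.mem_ker]
        have h5 := ConcreteCategory.congr_hom h3 b
        have h6 : (g.stalkMap (snd w)).hom b ∈ maximalIdeal (V.presheaf.stalk (snd w)) := by
          rw [← hm]; exact Ideal.mem_map_of_mem _ hb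
        exact h5.trans (hRk _ h6)
      exact hle hz
    have h7 : r = (r - (g.stalkMap (snd w)).hom a) + (g.stalkMap (snd w)).hom a := by ring
    change (snd.stalkMap w ≫ φ).hom r = (V.residue (snd w) ≫ ρ ≫ θQ).hom r
    rw [h7, map_add, map_add, hLk _ h4, hRk _ h4]
    congr 1
    exact ConcreteCategory.congr_hom h3 a
  -- the morphism `Spec Q ⟶ P` factors through the section
  have hc : Spec.map φ ≫ P.fromSpecStalk w = Spec.map θQ ≫ t := by
    apply sq.hom_ext
    · rw [Category.assoc, Category.assoc, ← Scheme.SpecMap_stalkMap_fromSpecStalk, ht1,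
        Scheme.fromSpecResidueField, ← Spec.map_comp_assoc, ← Spec.map_comp_assoc, hθQ]
    · rw [Category.assoc, Category.assoc, ← Scheme.SpecMap_stalkMap_fromSpecStalk, ht3,
        Scheme.fromSpecResidueField, ← Spec.map_comp_assoc, ← Spec.map_comp_assoc,
        ← Spec.map_comp_assoc, hLR]
  -- conclusion
  intro r hr
  have key := (SpecToEquivOfLocalRing P Q).apply_symm_apply ⟨w, φ, inferInstance⟩
  obtain ⟨h₁, h₂⟩ := SpecToEquivOfLocalRing_eq_iff.mp key
  simp only [SpecToEquivOfLocalRing_apply_fst, SpecToEquivOfLocalRing_apply_snd_coe,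
    SpecToEquivOfLocalRing_symm_apply] at h₁ h₂
  obtain ⟨e, he⟩ : ∃ e : P.presheaf.stalk ((Spec.map φ ≫ P.fromSpecStalk w) (closedPoint Q)) ≅
      P.presheaf.stalk w, Scheme.stalkClosedPointTo (Spec.map φ ≫ P.fromSpecStalk w) =
        e.hom ≫ φ := ⟨_, h₂⟩
  have hz : ∀ (c : Spec Q ⟶ P) (_ : Spec.map θQ ≫ t = c)
      (b : P.presheaf.stalk (c (closedPoint Q))), b ∈ maximalIdeal _ →
      (Scheme.stalkClosedPointTo c).hom b = 0 := by
    intro c hc' b hb
    have h9 := stalkMap_eq_zero_of_factor_field c
      (IsLocalRing.ResidueField (U.presheaf.stalk (fst w))) (Spec.map θQ) t hc' (closedPoint Q) b hb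
    change (stalkClosedPointIso Q).hom.hom ((c.stalkMap (closedPoint Q)).hom b) = 0
    rw [h9, map_zero]
  have hb : e.inv.hom r ∈ maximalIdeal
      (P.presheaf.stalk ((Spec.map φ ≫ P.fromSpecStalk w) (closedPoint Q))) := by
    rw [IsLocalRing.mem_maximalIdeal, mem_nonunits_iff] at hr ⊢
    intro hu
    apply hr
    have h10 := hu.map e.hom.hom
    have h11 : e.hom.hom (e.inv.hom r) = r := by
      change (e.inv ≫ e.hom).hom r = r
      rw [Iso.inv_hom_id]; rfl
    rwa [h11] at h10
  have h12 := hz _ hc.symm _ hb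
  rw [he] at h12
  have h13 : φ.hom (e.hom.hom (e.inv.hom r)) = 0 := h12
  have h11 : e.hom.hom (e.inv.hom r) = r := by
    change (e.inv ≫ e.hom).hom r = r
    rw [Iso.inv_hom_id]; rfl
  rw [h11] at h13
  exact Ideal.Quotient.eq_zero_iff_mem.mp h13


/-- bijective version of `residueFieldMap_surjective_of_isPullback` -/
theorem residueFieldMap_bijective_of_isPullback {P U V Z : Scheme.{u}} {fst : P ⟶ U}
    {snd : P ⟶ V} {f : U ⟶ Z} {g : V ⟶ Z} (sq : IsPullback fst snd f g) (w : P)
    (hres : Function.Bijective (g.residueFieldMap (snd w))) :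
    Function.Bijective (fst.residueFieldMap w) :=
  ⟨residueFieldMap_injective _ _, residueFieldMap_surjective_of_isPullback sq w hres.2⟩

/-- a point of the pullback over given points, with trivial residue field extension -/
theorem exists_point_of_isPullback {P U V Z : Scheme.{u}} {fst : P ⟶ U}
    {snd : P ⟶ V} {f : U ⟶ Z} {g : V ⟶ Z} (sq : IsPullback fst snd f g) (u : U) (v : V)
    (huv : f u = g v) (hres : Function.Bijective (g.residueFieldMap v)) :
    ∃ w : P, fst w = u ∧ snd w = v ∧ Function.Bijective (fst.residueFieldMap w) := by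
  obtain ⟨w, hw1, hw2⟩ := Scheme.exists_preimage_of_isPullback sq u v huv
  refine ⟨w, hw1, hw2, residueFieldMap_bijective_of_isPullback sq w ?_⟩
  have hw2' : snd w = v := hw2
  rw [hw2']
  exact hres

end Groth.Agent.H78.CAW
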