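import Mathlib
import Groth.Agent.H78.CAW.Residue
import Groth.Agent.H78.CAW.ComplBase
import Groth.Agent.H78.Refine.Ring
import Groth.Agent.H13.ComplIsoEtale
import Groth.Agent.S7203

/-!
# The base change of `X` to the completed local ring of `S`, and the common étale neighbourhood
(helper78, for S7238)
-/

set_option autoImplicit false
set_option linter.style.haveILetI false
set_option linter.unusedSectionVars false
universe u
open AlgebraicGeometry CategoryTheory CategoryTheory.Limits IsLocalRing
open Groth.Agent.H13.StalkMapTo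

namespace Groth.Agent.H78.CAW

/-- two local homomorphisms out of a completion into a complete local ring which agree on the
original ring are equal -/
theorem ringHom_ext_of_comp_algebraMap {L C : Type u} [CommRing L] [IsLocalRing L]
    [IsNoetherianRing L] [CommRing C] [IsLocalRing C] [IsNoetherianRing C]
    (f g : AdicCompletion (maximalIdeal L) L →+* AdicCompletion (maximalIdeal C) C)
    [IsLocalHom f] [IsLocalHom g]
    (h : f.comp (algebraMap L (AdicCompletion (maximalIdeal L) L)) =
      g.comp (algebraMap L (AdicCompletion (maximalIdeal L) L))) : f = g := by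
  refine RingHom.ext fun z => ?_
  rw [← sub_eq_zero]
  have hH : IsHausdorff (maximalIdeal (AdicCompletion (maximalIdeal C) C))
      (AdicCompletion (maximalIdeal C) C) := inferInstance
  refine hH.haus' _ fun n => ?_
  rw [SModEq.zero, smul_eq_mul, Ideal.mul_top]
  obtain ⟨c, hc⟩ := Groth.Agent.H78.Refine.exists_sub_mem_map_pow n z
  rw [Ideal.map_pow, ← AdicCompletion.maximalIdeal_eq_map] at hc
  have key : ∀ (k : AdicCompletion (maximalIdeal L) L →+* AdicCompletion (maximalIdeal C) C)
      (_ : IsLocalHom k), k (z - algebraMap L (AdicCompletion (maximalIdeal L) L) c) ∈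
        maximalIdeal (AdicCompletion (maximalIdeal C) C) ^ n := by
    intro k hk
    have h1 : (maximalIdeal (AdicCompletion (maximalIdeal L) L)).map k ≤
        maximalIdeal (AdicCompletion (maximalIdeal C) C) :=
      ((IsLocalRing.local_hom_TFAE k).out 0 2).mp hk
    have h2 := Ideal.mem_map_of_mem k hc
    rw [Ideal.map_pow] at h2
    exact Ideal.pow_right_mono h1 n h2
  have e1 : f z - g z = f (z - algebraMap L (AdicCompletion (maximalIdeal L) L) c) -
      g (z - algebraMap L (AdicCompletion (maximalIdeal L) L) c) := by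
    have := RingHom.congr_fun h c
    simp only [RingHom.comp_apply] at this
    rw [map_sub, map_sub, this]; ring
  rw [e1]
  exact Ideal.sub_mem _ (key f inferInstance) (key g inferInstance)

/-- `stalkMapTo` respects equality of morphisms -/
theorem stalkMapTo_congr {U Y : Scheme.{u}} {k₁ k₂ : U ⟶ Y} (e : k₁ = k₂) (u : U) (y : Y)
    (h : k₁ u = y) : stalkMapTo k₁ u y h = stalkMapTo k₂ u y (e ▸ h) := by
  subst e; rfl

section

variable {X S : Scheme.{u}} [IsLocallyNoetherian S] (p : X ⟶ S) (x : X)

theorem stalkMapTo_fst_facts (w : ↑(pullback p (dHom (p x))))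
    (hw1 : pullback.fst p (dHom (p x)) w = x)
    (hw2 : pullback.snd p (dHom (p x)) w = closedPoint (Ahat (p x))) :
    (stalkMapTo (pullback.fst p (dHom (p x))) w x hw1).Flat ∧
    (maximalIdeal (X.presheaf.stalk x)).map (stalkMapTo (pullback.fst p (dHom (p x))) w x hw1) =
      maximalIdeal ((pullback p (dHom (p x))).presheaf.stalk w) ∧
    RS (stalkMapTo (pullback.fst p (dHom (p x))) w x hw1) := by
  have sq := IsPullback.of_hasPullback p (dHom (p x))
  have hres := residueFieldMap_dHom_bijective (p x) _ hw2
  have hm := map_maximalIdeal_dHom (p x) _ hw2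
  refine ⟨?_, ?_, ?_⟩
  · unfold stalkMapTo
    refine RingHom.Flat.comp ?_ (Flat.stalkMap (pullback.fst p (dHom (p x))) w)
    exact RingHom.Flat.of_bijective (ConcreteCategory.bijective_of_isIso
      (X.presheaf.stalkCongr (.of_eq hw1)).inv)
  · unfold stalkMapTo
    rw [← Ideal.map_map, map_maximalIdeal_of_bijective _ (ConcreteCategory.bijective_of_isIso
      (X.presheaf.stalkCongr (.of_eq hw1)).inv)]
    exact map_maximalIdeal_eq_of_isPullback sq w hm hres.2
  · exact (bijective_residueFieldMap_iff' _ w x hw1).mp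
      (residueFieldMap_bijective_of_isPullback sq w hres)

/-- the isomorphism `O_{X,x}^∧ ≅ O_{X_D,w}^∧` -/
noncomputable def complEquiv (w : ↑(pullback p (dHom (p x))))
    (hw1 : pullback.fst p (dHom (p x)) w = x)
    (hw2 : pullback.snd p (dHom (p x)) w = closedPoint (Ahat (p x))) :
    AdicCompletion (maximalIdeal (X.presheaf.stalk x)) (X.presheaf.stalk x) ≃+*
      AdicCompletion (maximalIdeal ((pullback p (dHom (p x))).presheaf.stalk w))
        ((pullback p (dHom (p x))).presheaf.stalk w) :=
  RingEquiv.ofBijective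
    (FSch.complMap _ _ (stalkMapTo (pullback.fst p (dHom (p x))) w x hw1)
      (stalkMapTo_fst_facts p x w hw1 hw2).2.1.le)
    (Groth.Agent.H13.ComplIsoEtale.complMap_bijective_of_flat _
      (stalkMapTo_fst_facts p x w hw1 hw2).1 (stalkMapTo_fst_facts p x w hw1 hw2).2.1
      (stalkMapTo_fst_facts p x w hw1 hw2).2.2)

theorem complEquiv_algebraMap (w : ↑(pullback p (dHom (p x))))
    (hw1 : pullback.fst p (dHom (p x)) w = x)
    (hw2 : pullback.snd p (dHom (p x)) w = closedPoint (Ahat (p x)))
    (a : X.presheaf.stalk x) :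
    complEquiv p x w hw1 hw2 (algebraMap _ _ a) =
      algebraMap _ _ (stalkMapTo (pullback.fst p (dHom (p x))) w x hw1 a) :=
  Groth.Agent.H20.complMap_of _ _ _ (stalkMapTo_fst_facts p x w hw1 hw2).2.1.le a

end

section

variable {X S Y' : Scheme.{u}} [IsLocallyNoetherian S] (p : X ⟶ S) [LocallyOfFiniteType p] (x : X)

theorem germHom_stalkCongr (d₁ d₂ : Spec (CommRingCat.of (Ahat (p x)))) (h : d₁ = d₂) :
    ((Spec (CommRingCat.of (Ahat (p x)))).presheaf.stalkCongr (.of_eq h)).hom.hom.comp
      (germHom (p x) d₁) = germHom (p x) d₂ := by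
  subst h
  ext z
  simp [TopCat.Presheaf.stalkCongr]

/-- the compatibility of the two structure maps at the point `w` of `X ×_S D` -/
theorem snd_stalkMap_comp_germHom (w : ↑(pullback p (dHom (p x))))
    (hw1 : pullback.fst p (dHom (p x)) w = x)
    (hw2 : pullback.snd p (dHom (p x)) w = closedPoint (Ahat (p x))) :
    ((pullback.snd p (dHom (p x))).stalkMap w).hom.comp
      ((germHom (p x) (pullback.snd p (dHom (p x)) w)).comp (algebraMap _ (Ahat (p x)))) =
    (stalkMapTo (pullback.fst p (dHom (p x))) w x hw1).comp (p.stalkMap x).hom := by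
  have h0 : dHom (p x) (pullback.snd p (dHom (p x)) w) = p x := by
    rw [hw2]; exact dHom_closedPoint (p x)
  rw [← stalkMapTo_dHom (p x) _ hw2 h0, ← stalkMapTo_rfl (pullback.snd p (dHom (p x))) w,
    ← stalkMapTo_rfl p x]
  have h1 : (pullback.snd p (dHom (p x)) ≫ dHom (p x)) w = p x := h0
  have h2 : (pullback.fst p (dHom (p x)) ≫ p) w = p x := by
    rw [Scheme.Hom.comp_apply, hw1]
  rw [← stalkMapTo_comp _ _ w _ (p x) rfl h0 h1, ← stalkMapTo_comp _ _ w x (p x) hw1 rfl h2]
  exact (stalkMapTo_congr pullback.condition w (p x) h2).symm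

/-- **The common étale neighbourhood over the completed base.** -/
theorem exists_common_nbhd (q' : Y' ⟶ Spec (CommRingCat.of (Ahat (p x))))
    [LocallyOfFiniteType q'] (y' : Y') (hy' : q' y' = closedPoint (Ahat (p x)))
    (φ : AdicCompletion (maximalIdeal (X.presheaf.stalk x)) (X.presheaf.stalk x) ≃+*
      AdicCompletion (maximalIdeal (Y'.presheaf.stalk y')) (Y'.presheaf.stalk y'))
    (hφ : φ.toRingHom.comp ((algebraMap (X.presheaf.stalk x)
        (AdicCompletion (maximalIdeal (X.presheaf.stalk x)) (X.presheaf.stalk x))).comp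
          (p.stalkMap x).hom) =
      ((algebraMap (Y'.presheaf.stalk y')
        (AdicCompletion (maximalIdeal (Y'.presheaf.stalk y')) (Y'.presheaf.stalk y'))).comp
          (q'.stalkMap y').hom).comp
        ((germHom (p x) (q' y')).comp (algebraMap (S.presheaf.stalk (p x)) (Ahat (p x))))) :
    ∃ (w : ↑(pullback p (dHom (p x)))) (U : Scheme.{u}) (u : U) (e : U ⟶ Y')
      (f : U ⟶ pullback p (dHom (p x))),
      pullback.fst p (dHom (p x)) w = x ∧
      pullback.snd p (dHom (p x)) w = closedPoint (Ahat (p x)) ∧
      Function.Bijective ((pullback.fst p (dHom (p x))).residueFieldMap w) ∧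
      e u = y' ∧ f u = w ∧ Etale e ∧ Function.Bijective (e.residueFieldMap u) ∧
      Etale f ∧ Function.Bijective (f.residueFieldMap u) ∧
      f ≫ pullback.snd p (dHom (p x)) = e ≫ q' := by
  have sq := IsPullback.of_hasPullback p (dHom (p x))
  obtain ⟨w, hw1, hw2, hwres⟩ := exists_point_of_isPullback sq x (closedPoint (Ahat (p x)))
    (dHom_closedPoint (p x)).symm (residueFieldMap_dHom_bijective (p x) _ rfl)
  have hxy : q' y' = pullback.snd p (dHom (p x)) w := hy'.trans hw2.symm
  have hG : CAlg.IsGRing ((Spec (CommRingCat.of (Ahat (p x)))).presheaf.stalk (q' y')) :=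
    isGRing_stalk (p x) (q' y') hy'
  let cE := complEquiv p x w hw1 hw2
  let φ' := cE.symm.trans φ
  -- the compatibility for S7203
  have hφ' : φ'.toRingHom.comp ((algebraMap ((pullback p (dHom (p x))).presheaf.stalk w)
        (AdicCompletion (maximalIdeal ((pullback p (dHom (p x))).presheaf.stalk w))
          ((pullback p (dHom (p x))).presheaf.stalk w))).comp
        (((pullback.snd p (dHom (p x))).stalkMap w).hom.comp
          ((Spec (CommRingCat.of (Ahat (p x)))).presheaf.stalkCongr
            (Inseparable.of_eq hxy)).hom.hom)) =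
      (algebraMap (Y'.presheaf.stalk y')
        (AdicCompletion (maximalIdeal (Y'.presheaf.stalk y')) (Y'.presheaf.stalk y'))).comp
        (q'.stalkMap y').hom := by
    haveI : IsLocallyNoetherian (pullback p (dHom (p x))) :=
      LocallyOfFiniteType.isLocallyNoetherian (pullback.snd p (dHom (p x)))
    haveI : IsLocallyNoetherian Y' := LocallyOfFiniteType.isLocallyNoetherian q'
    haveI : Fact (q' y' = closedPoint (Ahat (p x))) := ⟨hy'⟩
    haveI l1 : IsLocalHom ((Spec (CommRingCat.of (Ahat (p x)))).presheaf.stalkCongr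
        (Inseparable.of_eq hxy)).hom.hom :=
      isLocalHom_of_isIso _
    haveI l2 : IsLocalHom φ'.toRingHom :=
      ⟨fun a ha => by
        have := ha.map φ'.symm.toRingHom
        simpa using this⟩
    rw [← RingHom.cancel_right (germHom_bijective (p x) (q' y') hy').2]
    refine ringHom_ext_of_comp_algebraMap _ _ (RingHom.ext fun a => ?_)
    simp only [RingHom.comp_apply]
    have e1 : ((Spec (CommRingCat.of (Ahat (p x)))).presheaf.stalkCongr
        (Inseparable.of_eq hxy)).hom.hom (germHom (p x) (q' y') (algebraMap _ (Ahat (p x)) a)) =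
        germHom (p x) (pullback.snd p (dHom (p x)) w) (algebraMap _ (Ahat (p x)) a) :=
      RingHom.congr_fun (germHom_stalkCongr p x _ _ hxy) _
    have e2 := RingHom.congr_fun (snd_stalkMap_comp_germHom p x w hw1 hw2) a
    simp only [RingHom.comp_apply] at e2
    have e3 := RingHom.congr_fun hφ a
    simp only [RingHom.comp_apply] at e3
    rw [e1, e2, ← complEquiv_algebraMap p x w hw1 hw2, ← e3]
    change φ (cE.symm (cE _)) = φ _
    rw [RingEquiv.symm_apply_apply]
  obtain ⟨U, u, e, heu, f, hfu, h1, h2, h3, h4, h5, -⟩ :=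
    Groth.Agent.S7203.result q' (pullback.snd p (dHom (p x))) y' w hxy hG φ' hφ' 1 le_rfl
  exact ⟨w, U, u, e, f, hw1, hw2, hwres, heu, hfu, h1, h2, h3, h4, h5⟩

end

end Groth.Agent.H78.CAW
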