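import Mathlib
import Groth.Agent.H24.FGSubAlg
import Groth.Agent.H24.DescFP7
import Groth.Agent.H24.LimitLocusEtale
import Groth.Agent.H17.FibreSurj
import Groth.Agent.S9218
import Groth.Agent.S9192

/-!
# Descent of a common étale neighbourhood to a finitely generated subalgebra (helper78, S7238)
-/

set_option autoImplicit false
set_option linter.style.haveILetI false
set_option linter.unusedSectionVars false
universe u
open AlgebraicGeometry CategoryTheory CategoryTheory.Limits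
open Groth.Agent.H24 Groth.Agent.H24.FGSubAlg

namespace Groth.Agent.H78.CAW

section Abstract

variable {C : Type*} [Category C]

theorem isPullback_of_right' {X₁₁ X₁₂ X₁₃ X₂₁ X₂₂ X₂₃ : C} {h₁₁ : X₁₁ ⟶ X₁₂} {h₁₂ : X₁₂ ⟶ X₁₃}
    {h₂₁ : X₂₁ ⟶ X₂₂} {h₂₂ : X₂₂ ⟶ X₂₃} {v₁₁ : X₁₁ ⟶ X₂₁} {v₁₂ : X₁₂ ⟶ X₂₂} {v₁₃ : X₁₃ ⟶ X₂₃}
    {a : X₁₁ ⟶ X₁₃} {b : X₂₁ ⟶ X₂₃} (ha : h₁₁ ≫ h₁₂ = a) (hb : h₂₁ ≫ h₂₂ = b)
    (s : IsPullback a v₁₁ v₁₃ b) (p : h₁₁ ≫ v₁₂ = v₁₁ ≫ h₂₁) (t : IsPullback h₁₂ v₁₂ v₁₃ h₂₂) :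
    IsPullback h₁₁ v₁₁ v₁₂ h₂₁ := by
  subst ha hb; exact s.of_right p t

theorem isPullback_of_bot' {X₁₁ X₁₂ X₂₁ X₂₂ X₃₁ X₃₂ : C} {h₁₁ : X₁₁ ⟶ X₁₂} {h₂₁ : X₂₁ ⟶ X₂₂}
    {h₃₁ : X₃₁ ⟶ X₃₂} {v₁₁ : X₁₁ ⟶ X₂₁} {v₁₂ : X₁₂ ⟶ X₂₂} {v₂₁ : X₂₁ ⟶ X₃₁} {v₂₂ : X₂₂ ⟶ X₃₂}
    {a : X₁₁ ⟶ X₃₁} {b : X₁₂ ⟶ X₃₂} (ha : v₁₁ ≫ v₂₁ = a) (hb : v₁₂ ≫ v₂₂ = b)
    (s : IsPullback h₁₁ a b h₃₁) (p : h₁₁ ≫ v₁₂ = v₁₁ ≫ h₂₁) (t : IsPullback h₂₁ v₂₁ v₂₂ h₃₁) :
    IsPullback h₁₁ v₁₁ v₁₂ h₂₁ := by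
  subst ha hb; exact s.of_bot p t

theorem isPullback_paste_vert' {X₁₁ X₁₂ X₂₁ X₂₂ X₃₁ X₃₂ : C} {h₁₁ : X₁₁ ⟶ X₁₂} {h₂₁ : X₂₁ ⟶ X₂₂}
    {h₃₁ : X₃₁ ⟶ X₃₂} {v₁₁ : X₁₁ ⟶ X₂₁} {v₁₂ : X₁₂ ⟶ X₂₂} {v₂₁ : X₂₁ ⟶ X₃₁} {v₂₂ : X₂₂ ⟶ X₃₂}
    {a : X₁₁ ⟶ X₃₁} {b : X₁₂ ⟶ X₃₂} (ha : v₁₁ ≫ v₂₁ = a) (hb : v₁₂ ≫ v₂₂ = b)
    (s : IsPullback h₁₁ v₁₁ v₁₂ h₂₁) (t : IsPullback h₂₁ v₂₁ v₂₂ h₃₁) :
    IsPullback h₁₁ a b h₃₁ := by
  subst ha hb; exact s.paste_vert t

theorem isPullback_paste_horiz' {X₁₁ X₁₂ X₁₃ X₂₁ X₂₂ X₂₃ : C} {h₁₁ : X₁₁ ⟶ X₁₂}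
    {h₁₂ : X₁₂ ⟶ X₁₃} {h₂₁ : X₂₁ ⟶ X₂₂} {h₂₂ : X₂₂ ⟶ X₂₃} {v₁₁ : X₁₁ ⟶ X₂₁} {v₁₂ : X₁₂ ⟶ X₂₂}
    {v₁₃ : X₁₃ ⟶ X₂₃} {a : X₁₁ ⟶ X₁₃} {b : X₂₁ ⟶ X₂₃} (ha : h₁₁ ≫ h₁₂ = a) (hb : h₂₁ ≫ h₂₂ = b)
    (s : IsPullback h₁₁ v₁₁ v₁₂ h₂₁) (t : IsPullback h₁₂ v₁₂ v₁₃ h₂₂) :
    IsPullback a v₁₁ v₁₃ b := by
  subst ha hb; exact s.paste_horiz t

end Abstract

section

variable {R' A : Type u} [CommRing R'] [CommRing A] [Algebra R' A]
  {X₁ Y₁ : Scheme.{u}} (x₁ : X₁ ⟶ Spec (CommRingCat.of R')) (y₁ : Y₁ ⟶ Spec (CommRingCat.of R'))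
  [LocallyOfFinitePresentation x₁] [LocallyOfFinitePresentation y₁] [IsAffine X₁] [IsAffine Y₁]
  {U₀ : Scheme.{u}} [IsAffine U₀]
  (e₀ : U₀ ⟶ pullback x₁ (Spec.map (CommRingCat.ofHom (algebraMap R' A))))
  (f₀ : U₀ ⟶ pullback y₁ (Spec.map (CommRingCat.ofHom (algebraMap R' A))))

instance (i : (Idx R' A)ᵒᵖ) : IsAffine ((bcDiagram A x₁).obj i) := by
  dsimp [bcDiagram]; infer_instance

instance {i j : (Idx R' A)ᵒᵖ} (g : i ⟶ j) : IsAffineHom ((specDiagram R' A).map g) := by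
  dsimp [specDiagram]; infer_instance

instance (i : (Idx R' A)ᵒᵖ) : IsAffine ((specDiagram R' A).obj i) := by
  dsimp [specDiagram]; infer_instance

theorem step1 [Etale e₀] :
    ∃ (j : Idx R' A) (Uj : Scheme.{u})
      (ej : Uj ⟶ pullback x₁ (Spec.map (CommRingCat.ofHom (algebraMap R' j.1)))) (gj : U₀ ⟶ Uj),
      LocallyOfFinitePresentation ej ∧ CompactSpace Uj ∧ QuasiSeparatedSpace Uj ∧ Etale ej ∧
        IsPullback gj e₀ ej (bcπ x₁ j) := by
  haveI : IsAffine (bcCone A x₁).pt := by dsimp [bcCone]; infer_instance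
  haveI : IsZariskiLocalAtSource @Etale.{u} := HasRingHomProperty.instIsZariskiLocalAtSource
  haveI : MorphismProperty.IsStableUnderComposition @Etale.{u} :=
    MorphismProperty.IsMultiplicative.toIsStableUnderComposition
  let e₀' : U₀ ⟶ (bcCone A x₁).pt := e₀
  haveI hE : Etale e₀' := ‹Etale e₀›
  haveI : LocallyOfFinitePresentation e₀' := inferInstance
  haveI : QuasiCompact e₀' := inferInstance
  haveI : QuasiSeparated e₀' := inferInstance
  obtain ⟨j, Uj, ej, gj, h1, h2, h3, h4, h5⟩ :=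
    exists_descAt_prop (bcDiagram A x₁) (bcCone A x₁) @Etale (fun j _ => inferInstance)
      coreDescent_etale (isLimitBcCone x₁) e₀' hE
  exact ⟨j.unop, Uj, ej, gj, h1, h2, h3, h4, h5⟩

/-- the structure morphism of a stage model over the stage base -/
noncomputable def xiHom (j : Idx R' A) {Uj : Scheme.{u}}
    (ej : Uj ⟶ pullback x₁ (Spec.map (CommRingCat.ofHom (algebraMap R' j.1)))) :
    Uj ⟶ Spec (CommRingCat.of j.1) :=
  ej ≫ pullback.snd x₁ (Spec.map (CommRingCat.ofHom (algebraMap R' j.1)))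

instance (j : Idx R' A) {Uj : Scheme.{u}}
    (ej : Uj ⟶ pullback x₁ (Spec.map (CommRingCat.ofHom (algebraMap R' j.1))))
    [LocallyOfFinitePresentation ej] : LocallyOfFinitePresentation (xiHom x₁ j ej) := by
  unfold xiHom; infer_instance

theorem step2 (h : e₀ ≫ pullback.snd _ _ = f₀ ≫ pullback.snd _ _)
    (j : Idx R' A) (Uj : Scheme.{u})
    (ej : Uj ⟶ pullback x₁ (Spec.map (CommRingCat.ofHom (algebraMap R' j.1)))) (gj : U₀ ⟶ Uj)
    [LocallyOfFinitePresentation ej] [CompactSpace Uj] [QuasiSeparatedSpace Uj]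
    (hpb : IsPullback gj e₀ ej (bcπ x₁ j)) :
    ∃ (j' : Idx R' A) (le1 : j ≤ j')
      (fj : pullback (xiHom x₁ j ej) (Spec.map (incl le1)) ⟶
        pullback (pullback.snd y₁ (Spec.map (CommRingCat.ofHom (algebraMap R' j.1))))
          (Spec.map (incl le1)))
      (sX : U₀ ⟶ pullback (xiHom x₁ j ej) (Spec.map (incl le1)))
      (sY : pullback y₁ (Spec.map (CommRingCat.ofHom (algebraMap R' A))) ⟶
        pullback (pullback.snd y₁ (Spec.map (CommRingCat.ofHom (algebraMap R' j.1))))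
          (Spec.map (incl le1))),
      fj ≫ pullback.snd _ _ = pullback.snd _ _ ∧
      sX ≫ pullback.fst _ _ = gj ∧
      sX ≫ pullback.snd _ _ = (e₀ ≫ pullback.snd _ _) ≫ Spec.map (val j') ∧
      sY ≫ pullback.fst _ _ = bcπ y₁ j ∧
      sY ≫ pullback.snd _ _ = pullback.snd _ _ ≫ Spec.map (val j') ∧
      sX ≫ fj = f₀ ≫ sY := by
  have hX : IsPullback gj (e₀ ≫ pullback.snd _ _) (xiHom x₁ j ej) (Spec.map (val j)) :=
    hpb.paste_vert (isPullback_bcπ x₁ j)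
  have hY : IsPullback (bcπ y₁ j) (pullback.snd y₁ _)
      (pullback.snd y₁ (Spec.map (CommRingCat.ofHom (algebraMap R' j.1)))) (Spec.map (val j)) :=
    isPullback_bcπ y₁ j
  haveI i1 : @LocallyOfFinitePresentation Uj ((specDiagram R' A).obj (Opposite.op j))
      (xiHom x₁ j ej) := inferInstanceAs (LocallyOfFinitePresentation (xiHom x₁ j ej))
  haveI i2 : @LocallyOfFinitePresentation _ ((specDiagram R' A).obj (Opposite.op j))
      (pullback.snd y₁ (Spec.map (CommRingCat.ofHom (algebraMap R' j.1)))) :=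
    inferInstanceAs (LocallyOfFinitePresentation
      (pullback.snd y₁ (Spec.map (CommRingCat.ofHom (algebraMap R' j.1)))))
  obtain ⟨j', φ, fj, sX, sY, h1, h2, h3, h4, h5, h6⟩ :=
    Groth.Agent.S9218.result (specDiagram R' A) (specCone R' A) (isLimitSpecCone R' A)
      (Opposite.op j) (xiHom x₁ j ej)
      (pullback.snd y₁ (Spec.map (CommRingCat.ofHom (algebraMap R' j.1))))
      gj (e₀ ≫ pullback.snd _ _) hX (bcπ y₁ j) (pullback.snd y₁ _) hY f₀ h.symm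
  exact ⟨j'.unop, leOfHom φ.unop, fj, sX, sY, h1, h2, h3, h4, h5, h6⟩

theorem compactSpace_pullback_map {T : Scheme.{u}} [CompactSpace T] {j j' : Idx R' A}
    (t : T ⟶ Spec (CommRingCat.of j.1)) (le1 : j ≤ j') :
    CompactSpace ↥(pullback t (Spec.map (incl le1))) := by
  haveI : IsAffineHom (pullback.fst t (Spec.map (incl le1))) :=
    MorphismProperty.of_isPullback (P := @IsAffineHom)
      (IsPullback.of_hasPullback t (Spec.map (incl le1))).flip inferInstance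
  exact QuasiCompact.compactSpace_of_compactSpace (pullback.fst t (Spec.map (incl le1)))

theorem quasiSeparatedSpace_pullback_map {T : Scheme.{u}} [QuasiSeparatedSpace T]
    {j j' : Idx R' A} (t : T ⟶ Spec (CommRingCat.of j.1)) (le1 : j ≤ j') :
    QuasiSeparatedSpace ↥(pullback t (Spec.map (incl le1))) := by
  haveI : IsAffineHom (pullback.fst t (Spec.map (incl le1))) :=
    MorphismProperty.of_isPullback (P := @IsAffineHom)
      (IsPullback.of_hasPullback t (Spec.map (incl le1))).flip inferInstance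
  exact quasiSeparatedSpace_of_quasiSeparated (pullback.fst t (Spec.map (incl le1)))

theorem step3 [Etale f₀]
    (j : Idx R' A) (Uj : Scheme.{u})
    (ej : Uj ⟶ pullback x₁ (Spec.map (CommRingCat.ofHom (algebraMap R' j.1)))) (gj : U₀ ⟶ Uj)
    [LocallyOfFinitePresentation ej] [CompactSpace Uj] [QuasiSeparatedSpace Uj]
    (hpb : IsPullback gj e₀ ej (bcπ x₁ j))
    (j' : Idx R' A) (le1 : j ≤ j')
    (fj : pullback (xiHom x₁ j ej) (Spec.map (incl le1)) ⟶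
      pullback (pullback.snd y₁ (Spec.map (CommRingCat.ofHom (algebraMap R' j.1))))
        (Spec.map (incl le1)))
    (sX : U₀ ⟶ pullback (xiHom x₁ j ej) (Spec.map (incl le1)))
    (sY : pullback y₁ (Spec.map (CommRingCat.ofHom (algebraMap R' A))) ⟶
      pullback (pullback.snd y₁ (Spec.map (CommRingCat.ofHom (algebraMap R' j.1))))
        (Spec.map (incl le1)))
    (ha : fj ≫ pullback.snd _ _ = pullback.snd _ _)
    (hb : sX ≫ pullback.fst _ _ = gj)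
    (hc : sX ≫ pullback.snd _ _ = (e₀ ≫ pullback.snd _ _) ≫ Spec.map (val j'))
    (hd : sY ≫ pullback.fst _ _ = bcπ y₁ j)
    (he : sY ≫ pullback.snd _ _ = pullback.snd _ _ ≫ Spec.map (val j'))
    (hf : sX ≫ fj = f₀ ≫ sY) (h : e₀ ≫ pullback.snd _ _ = f₀ ≫ pullback.snd _ _) :
    ∃ (j'' : Idx R' A) (le2 : j' ≤ j'') (Xi Yi : Scheme.{u}) (fi : Xi ⟶ Yi)
      (gi : Yi ⟶ Spec (CommRingCat.of j''.1))
      (pY : Yi ⟶ pullback (pullback.snd y₁ (Spec.map (CommRingCat.ofHom (algebraMap R' j.1))))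
        (Spec.map (incl le1)))
      (pX : Xi ⟶ pullback (xiHom x₁ j ej) (Spec.map (incl le1))),
      IsPullback pY gi (pullback.snd (pullback.snd y₁
        (Spec.map (CommRingCat.ofHom (algebraMap R' j.1)))) (Spec.map (incl le1)))
        (Spec.map (incl le2)) ∧ IsPullback pX fi fj pY ∧ Etale fi := by
  have hX : IsPullback gj (e₀ ≫ pullback.snd _ _) (xiHom x₁ j ej) (Spec.map (val j)) :=
    hpb.paste_vert (isPullback_bcπ x₁ j)
  have hY : IsPullback (bcπ y₁ j) (pullback.snd y₁ _)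
      (pullback.snd y₁ (Spec.map (CommRingCat.ofHom (algebraMap R' j.1)))) (Spec.map (val j)) :=
    isPullback_bcπ y₁ j
  have hw : Spec.map (val j') ≫ Spec.map (incl le1) = Spec.map (val j) := by
    rw [← Spec.map_comp, incl_val]
  -- the squares over the stage `j'`
  have hY' : IsPullback sY (pullback.snd y₁ _)
      (pullback.snd (pullback.snd y₁ (Spec.map (CommRingCat.ofHom (algebraMap R' j.1))))
        (Spec.map (incl le1))) (Spec.map (val j')) :=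
    isPullback_of_right' hd hw hY he (IsPullback.of_hasPullback _ _)
  have hX' : IsPullback sX (e₀ ≫ pullback.snd _ _)
      (pullback.snd (xiHom x₁ j ej) (Spec.map (incl le1))) (Spec.map (val j')) :=
    isPullback_of_right' hb hw hX hc (IsPullback.of_hasPullback (xiHom x₁ j ej) _)
  have hX'' : IsPullback sX f₀ fj sY := isPullback_of_bot' h.symm ha hX' hf hY'
  haveI := compactSpace_pullback_map (xiHom x₁ j ej) le1
  haveI := quasiSeparatedSpace_pullback_map (xiHom x₁ j ej) le1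
  haveI := compactSpace_pullback_map
    (pullback.snd y₁ (Spec.map (CommRingCat.ofHom (algebraMap R' j.1)))) le1
  haveI := quasiSeparatedSpace_pullback_map
    (pullback.snd y₁ (Spec.map (CommRingCat.ofHom (algebraMap R' j.1)))) le1
  haveI : LocallyOfFinitePresentation fj := by
    haveI : LocallyOfFinitePresentation
        (fj ≫ pullback.snd (pullback.snd y₁ (Spec.map (CommRingCat.ofHom (algebraMap R' j.1))))
          (Spec.map (incl le1))) := by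
      rw [ha]; infer_instance
    exact Groth.Agent.H17.locallyOfFinitePresentation_of_comp fj
      (pullback.snd (pullback.snd y₁ (Spec.map (CommRingCat.ofHom (algebraMap R' j.1))))
        (Spec.map (incl le1)))
  obtain ⟨j'', φ', Xi, Yi, fi, gi, pY, pX, h1, h2, h3⟩ :=
    Groth.Agent.S9192.result (specDiagram R' A) (specCone R' A) (isLimitSpecCone R' A)
      (Opposite.op j') fj
      (pullback.snd (pullback.snd y₁ (Spec.map (CommRingCat.ofHom (algebraMap R' j.1))))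
        (Spec.map (incl le1))) f₀ (pullback.snd y₁ _) sY sX hY' hX''
  exact ⟨j''.unop, leOfHom φ'.unop, Xi, Yi, fi, gi, pY, pX, h1, h2, h3⟩

/-- **Descent of a common étale neighbourhood to a finitely generated subalgebra.** -/
theorem exists_model [Etale e₀] [Etale f₀]
    (h : e₀ ≫ pullback.snd _ _ = f₀ ≫ pullback.snd _ _) :
    ∃ (k : Idx R' A) (UC : Scheme.{u})
      (eC : UC ⟶ pullback x₁ (Spec.map (CommRingCat.ofHom (algebraMap R' k.1))))
      (fC : UC ⟶ pullback y₁ (Spec.map (CommRingCat.ofHom (algebraMap R' k.1))))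
      (g : U₀ ⟶ UC),
      Etale eC ∧ Etale fC ∧ eC ≫ pullback.snd _ _ = fC ≫ pullback.snd _ _ ∧
        g ≫ eC = e₀ ≫ bcπ x₁ k ∧ g ≫ fC = f₀ ≫ bcπ y₁ k := by
  obtain ⟨j, Uj, ej, gj, hfp, hcp, hqs, hej, hpb⟩ := step1 x₁ e₀
  obtain ⟨j', le1, fj, sX, sY, ha, hb, hc, hd, he, hf⟩ := step2 x₁ y₁ e₀ f₀ h j Uj ej gj hpb
  obtain ⟨j'', le2, Xi, Yi, fi, gi, pY, pX, hYi, hXi, hfi⟩ :=
    step3 x₁ y₁ e₀ f₀ j Uj ej gj hpb j' le1 fj sX sY ha hb hc hd he hf h
  have le : j ≤ j'' := le1.trans le2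
  have hcomp : Spec.map (incl le2) ≫ Spec.map (incl le1) = Spec.map (incl le) := by
    rw [← Spec.map_comp, incl_trans]
  -- the X-side
  have sa : IsPullback pX (fi ≫ gi) (pullback.snd (xiHom x₁ j ej) (Spec.map (incl le1)))
      (Spec.map (incl le2)) := isPullback_paste_vert' rfl ha hXi hYi
  have sa' : IsPullback (pX ≫ pullback.fst (xiHom x₁ j ej) (Spec.map (incl le1)))
      (fi ≫ gi) (xiHom x₁ j ej) (Spec.map (incl le)) :=
    isPullback_paste_horiz' rfl hcomp sa (IsPullback.of_hasPullback (xiHom x₁ j ej) _)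
  have tX := isPullback_bcMap x₁ le
  let eC : Xi ⟶ pullback x₁ (Spec.map (CommRingCat.ofHom (algebraMap R' j''.1))) :=
    tX.lift ((pX ≫ pullback.fst (xiHom x₁ j ej) (Spec.map (incl le1))) ≫ ej) (fi ≫ gi)
      ((Category.assoc _ _ _).trans sa'.w)
  have heC1 : eC ≫ bcMap x₁ le =
      (pX ≫ pullback.fst (xiHom x₁ j ej) (Spec.map (incl le1))) ≫ ej := tX.lift_fst _ _ _
  have heC2 : eC ≫ pullback.snd _ _ = fi ≫ gi := tX.lift_snd _ _ _
  have sqX : IsPullback (pX ≫ pullback.fst (xiHom x₁ j ej) (Spec.map (incl le1))) eC ej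
      (bcMap x₁ le) := isPullback_of_bot' heC2 rfl sa' heC1.symm tX
  have hEtC : Etale eC := MorphismProperty.of_isPullback (P := @Etale) sqX hej
  -- the Y-side
  have sb : IsPullback (pY ≫ pullback.fst (pullback.snd y₁
      (Spec.map (CommRingCat.ofHom (algebraMap R' j.1)))) (Spec.map (incl le1))) gi
      (pullback.snd y₁ (Spec.map (CommRingCat.ofHom (algebraMap R' j.1))))
      (Spec.map (incl le)) :=
    isPullback_paste_horiz' rfl hcomp hYi (IsPullback.of_hasPullback _ _)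
  have hstr : Spec.map (incl le) ≫ Spec.map (CommRingCat.ofHom (algebraMap R' j.1)) =
      Spec.map (CommRingCat.ofHom (algebraMap R' j''.1)) := by
    rw [← Spec.map_comp]; exact congrArg Spec.map (str_incl le)
  have hYk : IsPullback ((pY ≫ pullback.fst (pullback.snd y₁
      (Spec.map (CommRingCat.ofHom (algebraMap R' j.1)))) (Spec.map (incl le1))) ≫
      pullback.fst y₁ (Spec.map (CommRingCat.ofHom (algebraMap R' j.1)))) gi y₁
      (Spec.map (CommRingCat.ofHom (algebraMap R' j''.1))) :=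
    isPullback_paste_horiz' rfl hstr sb (IsPullback.of_hasPullback y₁ _)
  let fC : Xi ⟶ pullback y₁ (Spec.map (CommRingCat.ofHom (algebraMap R' j''.1))) :=
    fi ≫ hYk.isoPullback.hom
  have hEtF : Etale fC := by
    haveI := hfi
    exact inferInstanceAs (Etale (fi ≫ hYk.isoPullback.hom))
  have hfC1 : fC ≫ pullback.fst _ _ =
      fi ≫ (pY ≫ pullback.fst (pullback.snd y₁
        (Spec.map (CommRingCat.ofHom (algebraMap R' j.1)))) (Spec.map (incl le1))) ≫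
        pullback.fst y₁ (Spec.map (CommRingCat.ofHom (algebraMap R' j.1))) :=
    (Category.assoc _ _ _).trans (congrArg (fi ≫ ·) hYk.isoPullback_hom_fst)
  have hfC2 : fC ≫ pullback.snd _ _ = fi ≫ gi :=
    (Category.assoc _ _ _).trans (congrArg (fi ≫ ·) hYk.isoPullback_hom_snd)
  -- the comparison morphism
  have hw'' : Spec.map (val j'') ≫ Spec.map (incl le2) = Spec.map (val j') := by
    rw [← Spec.map_comp, incl_val]
  let gY : U₀ ⟶ Yi := hYi.lift (f₀ ≫ sY) ((e₀ ≫ pullback.snd _ _) ≫ Spec.map (val j''))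
    (by rw [Category.assoc, he, ← reassoc_of% h]; simp only [Category.assoc, hw''])
  have hgY1 : gY ≫ pY = f₀ ≫ sY := hYi.lift_fst _ _ _
  have hgY2 : gY ≫ gi = (e₀ ≫ pullback.snd _ _) ≫ Spec.map (val j'') := hYi.lift_snd _ _ _
  let g : U₀ ⟶ Xi := hXi.lift sX gY (by rw [hf, hgY1])
  have hg1 : g ≫ pX = sX := hXi.lift_fst _ _ _
  have hg2 : g ≫ fi = gY := hXi.lift_snd _ _ _
  refine ⟨j'', Xi, eC, fC, g, hEtC, hEtF, heC2.trans hfC2.symm, ?_, ?_⟩
  · apply tX.hom_ext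
    · rw [Category.assoc, heC1, ← Category.assoc, ← Category.assoc, hg1, hb, hpb.w,
        Category.assoc, bcπ_bcMap]
    · rw [Category.assoc, heC2, ← Category.assoc, hg2, hgY2]
      simp only [Category.assoc, bcπ_snd]
  · apply pullback.hom_ext
    · rw [Category.assoc, hfC1, ← Category.assoc, hg2, ← Category.assoc, ← Category.assoc, hgY1]
      simp only [Category.assoc]
      rw [reassoc_of% hd]
      simp only [bcπ_fst]
    · rw [Category.assoc, hfC2, ← Category.assoc, hg2, hgY2, h]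
      simp only [Category.assoc, bcπ_snd]

end

end Groth.Agent.H78.CAW
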