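import Mathlib
import Groth.Agent.H78.CAW.Limit

set_option autoImplicit false
set_option linter.style.haveILetI false
set_option linter.unusedSectionVars false
universe u
open AlgebraicGeometry CategoryTheory CategoryTheory.Limits

namespace Groth.Agent.H78.CAW

/-- postcomposing a pullback square with a monomorphism -/
theorem isPullback_comp_mono {C : Type*} [Category C] {P X Y Z Z' : C} {fst : P ⟶ X} {snd : P ⟶ Y}
    {f : X ⟶ Z} {g : Y ⟶ Z} (sq : IsPullback fst snd f g) (m : Z ⟶ Z') [Mono m] :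
    IsPullback fst snd (f ≫ m) (g ≫ m) := by
  refine ⟨⟨by rw [reassoc_of% sq.w]⟩, ⟨PullbackCone.IsLimit.mk _
    (fun c => sq.lift c.fst c.snd (by
      have := c.condition
      rw [← cancel_mono m]; simpa using this))
    (fun c => sq.lift_fst _ _ _) (fun c => sq.lift_snd _ _ _)
    (fun c k h1 h2 => sq.hom_ext (by rw [h1, sq.lift_fst]) (by rw [h2, sq.lift_snd]))⟩⟩

section OI

variable {X S B D : Scheme.{u}} (p : X ⟶ S) (X₀ : X.Opens) (S₀ : S.Opens)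
  (hXS : X₀ ≤ p ⁻¹ᵁ S₀) (β₀ : B ⟶ ↑S₀) (δ : D ⟶ B) (g : D ⟶ S) (hg : δ ≫ β₀ ≫ S₀.ι = g)

/-- `X₀ ×_{S₀} B` -/
noncomputable abbrev X1 : Scheme.{u} := pullback (p.resLE S₀ X₀ hXS) β₀

/-- `X₁ → B` -/
noncomputable abbrev x1 : X1 p X₀ S₀ hXS β₀ ⟶ B := pullback.snd (p.resLE S₀ X₀ hXS) β₀

include hg in
theorem isPullback_x1 :
    IsPullback (pullback.fst (x1 p X₀ S₀ hXS β₀) δ ≫ pullback.fst (p.resLE S₀ X₀ hXS) β₀)
      (pullback.snd (x1 p X₀ S₀ hXS β₀) δ) (X₀.ι ≫ p) g := by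
  have h1 := isPullback_comp_mono (IsPullback.of_hasPullback (p.resLE S₀ X₀ hXS) β₀) S₀.ι
  have h2 : p.resLE S₀ X₀ hXS ≫ S₀.ι = X₀.ι ≫ p := Scheme.Hom.resLE_comp_ι p hXS
  rw [h2] at h1
  exact isPullback_paste_horiz' rfl hg (IsPullback.of_hasPullback (x1 p X₀ S₀ hXS β₀) δ) h1

/-- the open immersion `X₁ ×_B D ⟶ X ×_S D` -/
noncomputable def jX : pullback (x1 p X₀ S₀ hXS β₀) δ ⟶ pullback p g :=
  pullback.lift ((pullback.fst (x1 p X₀ S₀ hXS β₀) δ ≫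
    pullback.fst (p.resLE S₀ X₀ hXS) β₀) ≫ X₀.ι) (pullback.snd (x1 p X₀ S₀ hXS β₀) δ)
    (by rw [Category.assoc]; exact (isPullback_x1 p X₀ S₀ hXS β₀ δ g hg).w)

@[reassoc]
theorem jX_fst : jX p X₀ S₀ hXS β₀ δ g hg ≫ pullback.fst p g =
    (pullback.fst (x1 p X₀ S₀ hXS β₀) δ ≫ pullback.fst (p.resLE S₀ X₀ hXS) β₀) ≫ X₀.ι :=
  pullback.lift_fst _ _ _

@[reassoc]
theorem jX_snd : jX p X₀ S₀ hXS β₀ δ g hg ≫ pullback.snd p g =
    pullback.snd (x1 p X₀ S₀ hXS β₀) δ :=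
  pullback.lift_snd _ _ _

theorem isPullback_jX :
    IsPullback (jX p X₀ S₀ hXS β₀ δ g hg)
      (pullback.fst (x1 p X₀ S₀ hXS β₀) δ ≫ pullback.fst (p.resLE S₀ X₀ hXS) β₀)
      (pullback.fst p g) X₀.ι :=
  isPullback_of_right' (jX_snd p X₀ S₀ hXS β₀ δ g hg) rfl
    (isPullback_x1 p X₀ S₀ hXS β₀ δ g hg).flip (jX_fst p X₀ S₀ hXS β₀ δ g hg)
    (IsPullback.of_hasPullback p g).flip

instance : IsOpenImmersion (jX p X₀ S₀ hXS β₀ δ g hg) :=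
  MorphismProperty.of_isPullback (P := @IsOpenImmersion)
    (isPullback_jX p X₀ S₀ hXS β₀ δ g hg).flip inferInstance

end OI

end Groth.Agent.H78.CAW
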