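import Mathlib
import Groth.Agent.H78.CAW.Residue
import Groth.Agent.H78.CAW.OpenBC

/-!
# One side of the spreading-out argument (helper78, for S7238)

Given an étale `eC : UC ⟶ (X₀ ×_{S₀} B) ×_B Z` and `γ : V ⟶ Z`, the base change
`UC ×_Z V ⟶ X ×_S V` is étale.
-/

set_option autoImplicit false
set_option linter.style.haveILetI false
set_option linter.unusedSectionVars false
universe u
open AlgebraicGeometry CategoryTheory CategoryTheory.Limits

namespace Groth.Agent.H78.CAW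

theorem bijective_of_isOpenImmersion {X Y : Scheme.{u}} (f : X ⟶ Y) [IsOpenImmersion f] (x : X) :
    Function.Bijective (f.residueFieldMap x) :=
  ConcreteCategory.bijective_of_isIso (f.residueFieldMap x)

theorem bijective_congr {X Y : Scheme.{u}} {k₁ k₂ : X ⟶ Y} (h : k₁ = k₂) (x : X)
    (hb : Function.Bijective (k₁.residueFieldMap x)) :
    Function.Bijective (k₂.residueFieldMap x) := by
  subst h; exact hb

theorem bijective_at {X Y : Scheme.{u}} (k : X ⟶ Y) {x x' : X} (h : x = x')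
    (hb : Function.Bijective (k.residueFieldMap x)) :
    Function.Bijective (k.residueFieldMap x') := by
  subst h; exact hb

section Side

variable {X S B Z UC V : Scheme.{u}} (p : X ⟶ S) (X₀ : X.Opens) (S₀ : S.Opens)
  (hXS : X₀ ≤ p ⁻¹ᵁ S₀) (β₀ : B ⟶ ↑S₀) (πZ : Z ⟶ B)
  (eC : UC ⟶ pullback (x1 p X₀ S₀ hXS β₀) πZ)
  (c : UC ⟶ Z) (hc : eC ≫ pullback.snd _ _ = c)
  (γ : V ⟶ Z) (g : V ⟶ S) (hg : (γ ≫ πZ) ≫ β₀ ≫ S₀.ι = g)

/-- the base change of `eC` along `γ` -/
noncomputable def sideB :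
    pullback c γ ⟶ pullback (pullback.snd (x1 p X₀ S₀ hXS β₀) πZ) γ :=
  pullback.lift (pullback.fst c γ ≫ eC) (pullback.snd c γ)
    (by rw [Category.assoc, hc, pullback.condition])

@[reassoc]
theorem sideB_fst : sideB p X₀ S₀ hXS β₀ πZ eC c hc γ ≫ pullback.fst _ _ =
    pullback.fst c γ ≫ eC := pullback.lift_fst _ _ _

@[reassoc]
theorem sideB_snd : sideB p X₀ S₀ hXS β₀ πZ eC c hc γ ≫ pullback.snd _ _ =
    pullback.snd c γ := pullback.lift_snd _ _ _

theorem isPullback_sideB :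
    IsPullback (sideB p X₀ S₀ hXS β₀ πZ eC c hc γ) (pullback.fst c γ)
      (pullback.fst (pullback.snd (x1 p X₀ S₀ hXS β₀) πZ) γ) eC :=
  isPullback_of_right' (sideB_snd p X₀ S₀ hXS β₀ πZ eC c hc γ) hc
    (IsPullback.of_hasPullback c γ).flip (sideB_fst p X₀ S₀ hXS β₀ πZ eC c hc γ)
    (IsPullback.of_hasPullback (pullback.snd (x1 p X₀ S₀ hXS β₀) πZ) γ).flip

instance [Etale eC] : Etale (sideB p X₀ S₀ hXS β₀ πZ eC c hc γ) :=
  MorphismProperty.of_isPullback (P := @Etale)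
    (isPullback_sideB p X₀ S₀ hXS β₀ πZ eC c hc γ).flip inferInstance

/-- `UC ×_Z V ⟶ X ×_S V` -/
noncomputable def sideHom : pullback c γ ⟶ pullback p g :=
  sideB p X₀ S₀ hXS β₀ πZ eC c hc γ ≫
    (pullbackLeftPullbackSndIso (x1 p X₀ S₀ hXS β₀) πZ γ).hom ≫
      jX p X₀ S₀ hXS β₀ (γ ≫ πZ) g hg

@[reassoc]
theorem sideHom_snd : sideHom p X₀ S₀ hXS β₀ πZ eC c hc γ g hg ≫ pullback.snd p g =
    pullback.snd c γ := by
  unfold sideHom
  simp only [Category.assoc, jX_snd, pullbackLeftPullbackSndIso_hom_snd, sideB_snd]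

@[reassoc]
theorem sideHom_fst : sideHom p X₀ S₀ hXS β₀ πZ eC c hc γ g hg ≫ pullback.fst p g =
    pullback.fst c γ ≫ eC ≫ pullback.fst (x1 p X₀ S₀ hXS β₀) πZ ≫
      pullback.fst (p.resLE S₀ X₀ hXS) β₀ ≫ X₀.ι := by
  unfold sideHom
  simp only [Category.assoc, jX_fst, pullbackLeftPullbackSndIso_hom_fst_assoc, sideB_fst_assoc]

instance [Etale eC] : Etale (sideHom p X₀ S₀ hXS β₀ πZ eC c hc γ g hg) := by
  unfold sideHom; infer_instance

theorem sideHom_residue (w : ↑(pullback c γ))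
    (h : Function.Bijective (eC.residueFieldMap (pullback.fst c γ w))) :
    Function.Bijective ((sideHom p X₀ S₀ hXS β₀ πZ eC c hc γ g hg).residueFieldMap w) := by
  unfold sideHom
  refine bijective_comp _ _ w ?_ (bijective_of_isOpenImmersion _ _)
  exact residueFieldMap_bijective_of_isPullback
    (isPullback_sideB p X₀ S₀ hXS β₀ πZ eC c hc γ) w h

end Side

end Groth.Agent.H78.CAW
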