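import Mathlib
import Groth.Agent.H78.CAW.Side
import Groth.Agent.H78.CAW.Approx
import Groth.Agent.H51.FlatDimFormula

/-!
# Spreading out a common étale neighbourhood over the completion (helper78, for S7238)
-/

set_option autoImplicit false
set_option linter.style.haveILetI false
set_option linter.unusedSectionVars false
universe u
open AlgebraicGeometry CategoryTheory CategoryTheory.Limits IsLocalRing
open Groth.Agent.H24 Groth.Agent.H24.FGSubAlg

namespace Groth.Agent.H78.CAW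

section

variable {X Y S T : Scheme.{u}} [IsLocallyNoetherian S] (p : X ⟶ S) (q : Y ⟶ T)
  [LocallyOfFiniteType p] [LocallyOfFiniteType q]
  (s : S) (hG : CAlg.IsGRing (S.presheaf.stalk s)) (gT : Spec (CommRingCat.of (Ahat s)) ⟶ T)
  {R' : Type u} [CommRing R'] [IsNoetherianRing R'] [Algebra R' (Ahat s)]
  (S₀ : S.Opens) (hS₀ : IsAffineOpen S₀) (T₀ : T.Opens) (hT₀ : IsAffineOpen T₀)
  (X₀ : X.Opens) (hX₀ : IsAffineOpen X₀) (hXS : X₀ ≤ p ⁻¹ᵁ S₀)
  (Y₀ : Y.Opens) (hY₀ : IsAffineOpen Y₀) (hYT : Y₀ ≤ q ⁻¹ᵁ T₀)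
  (βS : Spec (CommRingCat.of R') ⟶ ↑S₀) (βT : Spec (CommRingCat.of R') ⟶ ↑T₀)
  [LocallyOfFiniteType βS]

set_option maxHeartbeats 1600000 in
include hG hS₀ hT₀ hX₀ hY₀ hXS hYT in
theorem exists_nbhds_of_common
    (hδS : Spec.map (CommRingCat.ofHom (algebraMap R' (Ahat s))) ≫ βS ≫ S₀.ι = dHom s)
    (hδT : Spec.map (CommRingCat.ofHom (algebraMap R' (Ahat s))) ≫ βT ≫ T₀.ι = gT)
    {U₀ : Scheme.{u}} [IsAffine U₀] (f' : U₀ ⟶ pullback p (dHom s)) (e' : U₀ ⟶ pullback q gT)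
    [Etale f'] [Etale e']
    (hfe : f' ≫ pullback.snd _ _ = e' ≫ pullback.snd _ _)
    (hfX : Set.range (f' ≫ pullback.fst _ _) ⊆ Set.range X₀.ι)
    (heY : Set.range (e' ≫ pullback.fst _ _) ⊆ Set.range Y₀.ι)
    (u₀ : U₀) (hu₀ : (f' ≫ pullback.snd _ _) u₀ = closedPoint (Ahat s))
    (hfres : Function.Bijective (f'.residueFieldMap u₀))
    (heres : Function.Bijective (e'.residueFieldMap u₀)) :
    ∃ (V : Scheme.{u}) (v : V) (eV : V ⟶ S) (τ : V ⟶ T) (W : Scheme.{u}) (w : W) (a : W ⟶ X)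
      (b : W ⟶ pullback q τ),
      Etale eV ∧ eV v = s ∧ Function.Bijective (eV.residueFieldMap v) ∧
      τ v = gT (closedPoint (Ahat s)) ∧
      Etale a ∧ a w = (f' ≫ pullback.fst _ _) u₀ ∧ Function.Bijective (a.residueFieldMap w) ∧
      a ≫ p = b ≫ pullback.snd q τ ≫ eV ∧
      Etale b ∧ (pullback.fst q τ) (b w) = (e' ≫ pullback.fst _ _) u₀ ∧
      (pullback.snd q τ) (b w) = v ∧ Function.Bijective (b.residueFieldMap w) := by
  haveI : IsAffine ↑S₀ := hS₀
  haveI : IsAffine ↑T₀ := hT₀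
  haveI : IsAffine ↑X₀ := hX₀
  haveI : IsAffine ↑Y₀ := hY₀
  haveI : IsZariskiLocalAtSource @Etale.{u} := HasRingHomProperty.instIsZariskiLocalAtSource
  haveI : MorphismProperty.IsStableUnderComposition @Etale.{u} :=
    MorphismProperty.IsMultiplicative.toIsStableUnderComposition
  -- the finite type models over `B = Spec R'`
  haveI : LocallyOfFinitePresentation (x1 p X₀ S₀ hXS βS) :=
    Groth.Agent.H51.locallyOfFinitePresentation_of_isLocallyNoetherian _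
  haveI : LocallyOfFinitePresentation (x1 q Y₀ T₀ hYT βT) :=
    Groth.Agent.H51.locallyOfFinitePresentation_of_isLocallyNoetherian _
  -- the morphisms to the models over the completion
  let a₀ : U₀ ⟶ ↑X₀ := IsOpenImmersion.lift X₀.ι (f' ≫ pullback.fst _ _) hfX
  have ha₀ : a₀ ≫ X₀.ι = f' ≫ pullback.fst _ _ := IsOpenImmersion.lift_fac _ _ _
  let b₀ : U₀ ⟶ ↑Y₀ := IsOpenImmersion.lift Y₀.ι (e' ≫ pullback.fst _ _) heY
  have hb₀ : b₀ ≫ Y₀.ι = e' ≫ pullback.fst _ _ := IsOpenImmersion.lift_fac _ _ _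
  let e₀ : U₀ ⟶ pullback (x1 p X₀ S₀ hXS βS)
      (Spec.map (CommRingCat.ofHom (algebraMap R' (Ahat s)))) :=
    (isPullback_jX p X₀ S₀ hXS βS _ (dHom s) hδS).lift f' a₀ ha₀.symm
  have he₀1 : e₀ ≫ jX p X₀ S₀ hXS βS _ (dHom s) hδS = f' := IsPullback.lift_fst _ _ _ _
  have he₀2 : e₀ ≫ pullback.fst _ _ ≫ pullback.fst _ _ = a₀ := IsPullback.lift_snd _ _ _ _
  let f₀ : U₀ ⟶ pullback (x1 q Y₀ T₀ hYT βT)
      (Spec.map (CommRingCat.ofHom (algebraMap R' (Ahat s)))) :=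
    (isPullback_jX q Y₀ T₀ hYT βT _ gT hδT).lift e' b₀ hb₀.symm
  have hf₀1 : f₀ ≫ jX q Y₀ T₀ hYT βT _ gT hδT = e' := IsPullback.lift_fst _ _ _ _
  have hf₀2 : f₀ ≫ pullback.fst _ _ ≫ pullback.fst _ _ = b₀ := IsPullback.lift_snd _ _ _ _
  haveI hEe₀ : Etale e₀ :=
    MorphismProperty.of_postcomp (W := @Etale) (W' := @Etale) e₀
      (jX p X₀ S₀ hXS βS _ (dHom s) hδS) inferInstance (by rw [he₀1]; infer_instance)
  haveI hEf₀ : Etale f₀ :=
    MorphismProperty.of_postcomp (W := @Etale) (W' := @Etale) f₀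
      (jX q Y₀ T₀ hYT βT _ gT hδT) inferInstance (by rw [hf₀1]; infer_instance)
  have he₀s : e₀ ≫ pullback.snd _ _ = f' ≫ pullback.snd _ _ := by
    rw [← he₀1, Category.assoc, jX_snd]
  have hf₀s : f₀ ≫ pullback.snd _ _ = e' ≫ pullback.snd _ _ := by
    rw [← hf₀1, Category.assoc, jX_snd]
  have h : e₀ ≫ pullback.snd _ _ = f₀ ≫ pullback.snd _ _ := by
    rw [he₀s, hf₀s, hfe]
  obtain ⟨k, UC, eC, fC, g, hEC, hFC, hC, hgE, hgF⟩ :=
    exists_model (x1 p X₀ S₀ hXS βS) (x1 q Y₀ T₀ hYT βT) e₀ f₀ h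
  haveI := hEC
  haveI := hFC
  -- the finitely generated subalgebra `k`, `Z = Spec k`
  have hζπ : Spec.map (val k) ≫ Spec.map (CommRingCat.ofHom (algebraMap R' k.1)) =
      Spec.map (CommRingCat.ofHom (algebraMap R' (Ahat s))) := by
    rw [← Spec.map_comp]; exact congrArg Spec.map (str_val k)
  haveI : LocallyOfFiniteType (Spec.map (CommRingCat.ofHom (algebraMap R' k.1))) := by
    rw [HasRingHomProperty.Spec_iff (P := @LocallyOfFiniteType)]
    haveI : Algebra.FiniteType R' k.1 := (Subalgebra.fg_iff_finiteType k.1).mp k.2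
    exact RingHom.finiteType_algebraMap.mpr ‹_›
  let qZ : Spec (CommRingCat.of k.1) ⟶ S :=
    Spec.map (CommRingCat.ofHom (algebraMap R' k.1)) ≫ βS ≫ S₀.ι
  haveI : LocallyOfFiniteType qZ := by dsimp only [qZ]; infer_instance
  have hζ : Spec.map (val k) ≫ qZ = dHom s := by
    dsimp only [qZ]; rw [reassoc_of% hζπ]; exact hδS
  obtain ⟨V, v, eV, γ, hEV, hv, hvres, hγv, hγ⟩ :=
    exists_etale_section s hG qZ (Spec.map (val k)) hζ
  haveI := hEV
  let τ : V ⟶ T := (γ ≫ Spec.map (CommRingCat.ofHom (algebraMap R' k.1))) ≫ βT ≫ T₀.ι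
  have hγS : (γ ≫ Spec.map (CommRingCat.ofHom (algebraMap R' k.1))) ≫ βS ≫ S₀.ι = eV := by
    rw [Category.assoc]; exact hγ
  -- the common structure map
  let c : UC ⟶ Spec (CommRingCat.of k.1) := eC ≫ pullback.snd _ _
  have hγres : Function.Bijective (γ.residueFieldMap v) :=
    (bijective_of_comp γ qZ v (bijective_congr hγ.symm v hvres)).1
  have hgc : g ≫ c = (f' ≫ pullback.snd _ _) ≫ Spec.map (val k) := by
    dsimp only [c]
    rw [reassoc_of% hgE, bcπ_snd, ← Category.assoc, he₀s]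
  have hcu : c (g u₀) = γ v := by
    rw [hγv]
    calc c (g u₀) = (g ≫ c) u₀ := (Scheme.Hom.comp_apply _ _ _).symm
      _ = ((f' ≫ pullback.snd _ _) ≫ Spec.map (val k)) u₀ := by rw [hgc]
      _ = Spec.map (val k) ((f' ≫ pullback.snd _ _) u₀) := Scheme.Hom.comp_apply _ _ _
      _ = _ := by rw [hu₀]
  obtain ⟨w, hw1, hw2, -⟩ :=
    exists_point_of_isPullback (IsPullback.of_hasPullback c γ) (g u₀) v hcu hγres
  -- residue fields on the models
  have hres_e₀ : Function.Bijective (e₀.residueFieldMap u₀) :=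
    (bijective_of_comp e₀ (jX p X₀ S₀ hXS βS _ (dHom s) hδS) u₀
      (bijective_congr he₀1.symm u₀ hfres)).1
  have hres_f₀ : Function.Bijective (f₀.residueFieldMap u₀) :=
    (bijective_of_comp f₀ (jX q Y₀ T₀ hYT βT _ gT hδT) u₀
      (bijective_congr hf₀1.symm u₀ heres)).1
  have hζres : Function.Bijective
      ((Spec.map (val k)).residueFieldMap (closedPoint (Ahat s))) :=
    (bijective_of_comp (Spec.map (val k)) qZ _
      (bijective_congr hζ.symm _ (residueFieldMap_dHom_bijective s _ rfl))).1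
  have hsnd_e₀ : (pullback.snd (x1 p X₀ S₀ hXS βS)
      (Spec.map (CommRingCat.ofHom (algebraMap R' (Ahat s))))) (e₀ u₀) =
      closedPoint (Ahat s) := by
    rw [← Scheme.Hom.comp_apply, he₀s]; exact hu₀
  have hsnd_f₀ : (pullback.snd (x1 q Y₀ T₀ hYT βT)
      (Spec.map (CommRingCat.ofHom (algebraMap R' (Ahat s))))) (f₀ u₀) =
      closedPoint (Ahat s) := by
    rw [← Scheme.Hom.comp_apply, hf₀s, ← hfe]; exact hu₀
  have hres_πx : Function.Bijective
      ((bcπ (x1 p X₀ S₀ hXS βS) k).residueFieldMap (e₀ u₀)) :=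
    residueFieldMap_bijective_of_isPullback (isPullback_bcπ (x1 p X₀ S₀ hXS βS) k) (e₀ u₀)
      (bijective_at _ hsnd_e₀.symm hζres)
  have hres_πy : Function.Bijective
      ((bcπ (x1 q Y₀ T₀ hYT βT) k).residueFieldMap (f₀ u₀)) :=
    residueFieldMap_bijective_of_isPullback (isPullback_bcπ (x1 q Y₀ T₀ hYT βT) k) (f₀ u₀)
      (bijective_at _ hsnd_f₀.symm hζres)
  have hres_eC : Function.Bijective (eC.residueFieldMap (g u₀)) :=
    (bijective_of_comp g eC u₀ (bijective_congr hgE.symm u₀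
      (bijective_comp e₀ _ u₀ hres_e₀ hres_πx))).2
  have hres_fC : Function.Bijective (fC.residueFieldMap (g u₀)) :=
    (bijective_of_comp g fC u₀ (bijective_congr hgF.symm u₀
      (bijective_comp f₀ _ u₀ hres_f₀ hres_πy))).2
  -- the two sides
  have hsXfst := sideHom_fst p X₀ S₀ hXS βS
    (Spec.map (CommRingCat.ofHom (algebraMap R' k.1))) eC c rfl γ eV hγS
  have hsXsnd := sideHom_snd p X₀ S₀ hXS βS
    (Spec.map (CommRingCat.ofHom (algebraMap R' k.1))) eC c rfl γ eV hγS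
  have hsYfst := sideHom_fst q Y₀ T₀ hYT βT
    (Spec.map (CommRingCat.ofHom (algebraMap R' k.1))) fC c hC.symm γ τ rfl
  have hsYsnd := sideHom_snd q Y₀ T₀ hYT βT
    (Spec.map (CommRingCat.ofHom (algebraMap R' k.1))) fC c hC.symm γ τ rfl
  have hXpt : g ≫ eC ≫ pullback.fst (x1 p X₀ S₀ hXS βS) _ ≫
      pullback.fst (p.resLE S₀ X₀ hXS) βS ≫ X₀.ι = f' ≫ pullback.fst _ _ := by
    rw [reassoc_of% hgE, bcπ_fst_assoc, ← ha₀, ← he₀2]
    simp only [Category.assoc]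
  have hYpt : g ≫ fC ≫ pullback.fst (x1 q Y₀ T₀ hYT βT) _ ≫
      pullback.fst (q.resLE T₀ Y₀ hYT) βT ≫ Y₀.ι = e' ≫ pullback.fst _ _ := by
    rw [reassoc_of% hgF, bcπ_fst_assoc, ← hb₀, ← hf₀2]
    simp only [Category.assoc]
  refine ⟨V, v, eV, τ, pullback c γ, w,
    sideHom p X₀ S₀ hXS βS (Spec.map (CommRingCat.ofHom (algebraMap R' k.1))) eC c rfl γ eV hγS ≫
      pullback.fst p eV,
    sideHom q Y₀ T₀ hYT βT (Spec.map (CommRingCat.ofHom (algebraMap R' k.1))) fC c hC.symm γ τ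
      rfl, hEV, hv, hvres, ?_, inferInstance, ?_, ?_, ?_, inferInstance, ?_, ?_, ?_⟩
  · have hτ : τ = γ ≫ (Spec.map (CommRingCat.ofHom (algebraMap R' k.1)) ≫ βT ≫ T₀.ι) :=
      Category.assoc _ _ _
    calc τ v = (Spec.map (CommRingCat.ofHom (algebraMap R' k.1)) ≫ βT ≫ T₀.ι) (γ v) := by
          rw [hτ, Scheme.Hom.comp_apply]
      _ = (Spec.map (CommRingCat.ofHom (algebraMap R' k.1)) ≫ βT ≫ T₀.ι)
            (Spec.map (val k) (closedPoint (Ahat s))) := by rw [hγv]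
      _ = (Spec.map (val k) ≫ Spec.map (CommRingCat.ofHom (algebraMap R' k.1)) ≫ βT ≫ T₀.ι)
            (closedPoint (Ahat s)) := (Scheme.Hom.comp_apply _ _ _).symm
      _ = _ := by rw [reassoc_of% hζπ, hδT]
  · rw [hsXfst, Scheme.Hom.comp_apply, hw1, ← Scheme.Hom.comp_apply, hXpt]
  · refine bijective_comp _ _ w (sideHom_residue p X₀ S₀ hXS βS _ eC c rfl γ eV hγS w
      (bijective_at _ hw1.symm hres_eC)) ?_
    refine residueFieldMap_bijective_of_isPullback (IsPullback.of_hasPullback p eV) _ ?_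
    have hv' : pullback.snd p eV ((sideHom p X₀ S₀ hXS βS
        (Spec.map (CommRingCat.ofHom (algebraMap R' k.1))) eC c rfl γ eV hγS) w) = v := by
      rw [← Scheme.Hom.comp_apply, hsXsnd]; exact hw2
    exact bijective_at _ hv'.symm hvres
  · rw [Category.assoc, pullback.condition, reassoc_of% hsXsnd, reassoc_of% hsYsnd]
  · rw [← Scheme.Hom.comp_apply, hsYfst, Scheme.Hom.comp_apply, hw1, ← Scheme.Hom.comp_apply,
      hYpt]
  · rw [← Scheme.Hom.comp_apply, hsYsnd]; exact hw2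
  · exact sideHom_residue q Y₀ T₀ hYT βT _ fC c hC.symm γ τ rfl w
      (bijective_at _ hw1.symm hres_fC)

end

end Groth.Agent.H78.CAW
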