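import Mathlib
import Groth.Agent.H78.CAW.Spread
import Groth.Agent.H78.CAW.ComplPt
import Groth.Agent.H25.FiniteTypeInt

/-!
# Étale neighbourhoods matching a completed base change (helper78, S7238)
-/

set_option autoImplicit false
set_option linter.style.haveILetI false
set_option linter.unusedSectionVars false
universe u
open AlgebraicGeometry CategoryTheory CategoryTheory.Limits IsLocalRing

namespace Groth.Agent.H78.CAW

/-- a morphism from a local scheme factors through any affine open containing the image of the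
closed point -/
theorem exists_factor_affine {T : Scheme.{u}} (R : CommRingCat.{u}) [IsLocalRing R]
    (g : Spec R ⟶ T) (T₀ : T.Opens) (hT₀ : IsAffineOpen T₀) (h : g (closedPoint R) ∈ T₀) :
    ∃ β : Γ(T, T₀) ⟶ R, Spec.map β ≫ hT₀.isoSpec.inv ≫ T₀.ι = g := by
  have hr : Set.range g ⊆ Set.range T₀.ι := by
    rw [Scheme.Opens.range_ι]
    rintro _ ⟨z, rfl⟩
    have hz : z ⤳ closedPoint R := IsLocalRing.specializes_closedPoint z
    exact (hz.map g.continuous).mem_open T₀.2 h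
  refine ⟨Spec.preimage (IsOpenImmersion.lift T₀.ι g hr ≫ hT₀.isoSpec.hom), ?_⟩
  rw [Spec.map_preimage, Category.assoc, Iso.hom_inv_id_assoc, IsOpenImmersion.lift_fac]

/-- the ring `A₀ ⊗_ℤ R_T` with its map to the completion -/
theorem exists_tensor_model {A₀ RT C : Type u} [CommRing A₀] [CommRing RT] [CommRing C]
    [IsNoetherianRing A₀] [Algebra.FiniteType ℤ RT] (αS : A₀ →+* C) (αT : RT →+* C) :
    ∃ (R' : Type u) (_ : CommRing R') (_ : IsNoetherianRing R') (_ : Algebra R' C)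
      (iS : A₀ →+* R') (iT : RT →+* R'), iS.FiniteType ∧
        (algebraMap R' C).comp iS = αS ∧ (algebraMap R' C).comp iT = αT := by
  let ρ : TensorProduct ℤ A₀ RT →ₐ[ℤ] C :=
    Algebra.TensorProduct.productMap αS.toIntAlgHom αT.toIntAlgHom
  haveI : Algebra.FiniteType A₀ (TensorProduct ℤ A₀ RT) := inferInstance
  refine ⟨TensorProduct ℤ A₀ RT, inferInstance, Algebra.FiniteType.isNoetherianRing A₀ _,
    ρ.toRingHom.toAlgebra, algebraMap A₀ (TensorProduct ℤ A₀ RT),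
    (Algebra.TensorProduct.includeRight (R := ℤ) (A := A₀) (B := RT)).toRingHom, ?_, ?_, ?_⟩
  · exact RingHom.finiteType_algebraMap.mpr inferInstance
  · ext a
    change ρ (algebraMap A₀ (TensorProduct ℤ A₀ RT) a) = αS a
    rw [Algebra.TensorProduct.algebraMap_apply]
    simp [ρ]
  · ext b
    change ρ (Algebra.TensorProduct.includeRight b) = αT b
    simp [ρ]

section Main

variable {X Y S T : Scheme.{u}} [IsLocallyNoetherian S]
    (p : X ⟶ S) (q : Y ⟶ T) [LocallyOfFiniteType p] [LocallyOfFiniteType q]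
    [LocallyOfFiniteType (specULiftZIsTerminal.from T)]

set_option maxHeartbeats 1600000 in
/-- **Étale neighbourhoods matching a completed base change** (the body of S7238). -/
theorem main
    (x : X) (hG : CAlg.IsGRing ↑(S.presheaf.stalk (p x))) (y : Y)
    (σ : ↑(T.presheaf.stalk (q y)) →+*
      AdicCompletion (maximalIdeal ↑(S.presheaf.stalk (p x))) ↑(S.presheaf.stalk (p x)))
    [IsLocalHom σ]
    (yσ : ↑(pullback q (Spec.map (CommRingCat.ofHom σ) ≫ T.fromSpecStalk (q y))))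
    (hyσ : (pullback.fst q (Spec.map (CommRingCat.ofHom σ) ≫ T.fromSpecStalk (q y))) yσ = y)
    (hyσc : (pullback.snd q (Spec.map (CommRingCat.ofHom σ) ≫ T.fromSpecStalk (q y))) yσ =
      closedPoint (AdicCompletion (maximalIdeal ↑(S.presheaf.stalk (p x))) ↑(S.presheaf.stalk (p x))))
    (φ : AdicCompletion (maximalIdeal ↑(X.presheaf.stalk x)) ↑(X.presheaf.stalk x) ≃+*
      AdicCompletion (maximalIdeal ↑((pullback q (Spec.map (CommRingCat.ofHom σ) ≫ T.fromSpecStalk (q y))).presheaf.stalk yσ))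
        ↑((pullback q (Spec.map (CommRingCat.ofHom σ) ≫ T.fromSpecStalk (q y))).presheaf.stalk yσ))
    (hφ : φ.toRingHom.comp ((algebraMap ↑(X.presheaf.stalk x)
        (AdicCompletion (maximalIdeal ↑(X.presheaf.stalk x)) ↑(X.presheaf.stalk x))).comp (p.stalkMap x).hom) =
      ((algebraMap _ (AdicCompletion (maximalIdeal
          ↑((pullback q (Spec.map (CommRingCat.ofHom σ) ≫ T.fromSpecStalk (q y))).presheaf.stalk yσ)) _)).comp
        ((pullback.snd q (Spec.map (CommRingCat.ofHom σ) ≫ T.fromSpecStalk (q y))).stalkMap yσ).hom).comp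
        ((((Spec (CommRingCat.of (AdicCompletion (maximalIdeal ↑(S.presheaf.stalk (p x))) ↑(S.presheaf.stalk (p x))))).presheaf.germ
            ⊤ ((pullback.snd q (Spec.map (CommRingCat.ofHom σ) ≫ T.fromSpecStalk (q y))) yσ) trivial).hom.comp
          ((Scheme.ΓSpecIso (CommRingCat.of (AdicCompletion (maximalIdeal ↑(S.presheaf.stalk (p x)))
            ↑(S.presheaf.stalk (p x))))).inv.hom.comp
            (algebraMap ↑(S.presheaf.stalk (p x))
              (AdicCompletion (maximalIdeal ↑(S.presheaf.stalk (p x))) ↑(S.presheaf.stalk (p x)))))))) :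
    ∃ (V : Scheme.{u}) (v : V) (e : V ⟶ S) (τ : V ⟶ T) (W : Scheme.{u}) (w : W) (a : W ⟶ X)
      (b : W ⟶ pullback q τ),
      Etale e ∧ e v = p x ∧ Function.Bijective (e.residueFieldMap v) ∧ τ v = q y ∧
      Etale a ∧ a w = x ∧ Function.Bijective (a.residueFieldMap w) ∧
      a ≫ p = b ≫ pullback.snd q τ ≫ e ∧
      Etale b ∧ (pullback.fst q τ) (b w) = y ∧ (pullback.snd q τ) (b w) = v ∧
      Function.Bijective (b.residueFieldMap w) := by
  -- the common étale neighbourhood over the completion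
  obtain ⟨wD, U, u, e, f, hw1, hw2, hwres, heu, hfu, hEe, heres, hEf, hfres, hfe⟩ :=
    exists_common_nbhd p x (pullback.snd q (Spec.map (CommRingCat.ofHom σ) ≫ T.fromSpecStalk (q y)))
      yσ hyσc φ hφ
  haveI := hEe
  haveI := hEf
  have hσTc : (Spec.map (CommRingCat.ofHom σ) ≫ T.fromSpecStalk (q y))
      (closedPoint (Ahat (p x))) = q y := by
    have h1 : (pullback.fst q (Spec.map (CommRingCat.ofHom σ) ≫ T.fromSpecStalk (q y)) ≫ q) yσ =
        (pullback.snd q (Spec.map (CommRingCat.ofHom σ) ≫ T.fromSpecStalk (q y)) ≫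
          (Spec.map (CommRingCat.ofHom σ) ≫ T.fromSpecStalk (q y))) yσ := by
      rw [pullback.condition]
    rw [Scheme.Hom.comp_apply, Scheme.Hom.comp_apply, hyσ, hyσc] at h1
    exact h1.symm
  -- affine opens
  obtain ⟨S₀, hS₀, hsS₀⟩ : ∃ S₀ : S.Opens, IsAffineOpen S₀ ∧ p x ∈ S₀ := by
    obtain ⟨_, ⟨V, hV, rfl⟩, hxV, -⟩ := S.isBasis_affineOpens.exists_subset_of_mem_open
      (Set.mem_univ (p x)) isOpen_univ
    exact ⟨V, hV, hxV⟩
  obtain ⟨T₀, hT₀, htT₀⟩ : ∃ T₀ : T.Opens, IsAffineOpen T₀ ∧ q y ∈ T₀ := by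
    obtain ⟨_, ⟨V, hV, rfl⟩, hxV, -⟩ := T.isBasis_affineOpens.exists_subset_of_mem_open
      (Set.mem_univ (q y)) isOpen_univ
    exact ⟨V, hV, hxV⟩
  obtain ⟨X₀, hX₀, hxX₀, hXS⟩ : ∃ X₀ : X.Opens, IsAffineOpen X₀ ∧ x ∈ X₀ ∧ X₀ ≤ p ⁻¹ᵁ S₀ := by
    obtain ⟨_, ⟨V, hV, rfl⟩, hxV, hVU⟩ := X.isBasis_affineOpens.exists_subset_of_mem_open
      (show x ∈ ((p ⁻¹ᵁ S₀ : X.Opens) : Set X) from hsS₀) (p ⁻¹ᵁ S₀).2
    exact ⟨V, hV, hxV, hVU⟩
  obtain ⟨Y₀, hY₀, hyY₀, hYT⟩ : ∃ Y₀ : Y.Opens, IsAffineOpen Y₀ ∧ y ∈ Y₀ ∧ Y₀ ≤ q ⁻¹ᵁ T₀ := by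
    obtain ⟨_, ⟨V, hV, rfl⟩, hxV, hVU⟩ := Y.isBasis_affineOpens.exists_subset_of_mem_open
      (show y ∈ ((q ⁻¹ᵁ T₀ : Y.Opens) : Set Y) from htT₀) (q ⁻¹ᵁ T₀).2
    exact ⟨V, hV, hxV, hVU⟩
  have hfux : (f ≫ pullback.fst p (dHom (p x))) u = x := by
    rw [Scheme.Hom.comp_apply, hfu, hw1]
  have heuy : (e ≫ pullback.fst q (Spec.map (CommRingCat.ofHom σ) ≫ T.fromSpecStalk (q y))) u =
      y := by
    rw [Scheme.Hom.comp_apply, heu, hyσ]
  obtain ⟨U₀, hU₀, huU₀, hUX, hUY⟩ : ∃ U₀ : U.Opens, IsAffineOpen U₀ ∧ u ∈ U₀ ∧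
      U₀ ≤ (f ≫ pullback.fst p (dHom (p x))) ⁻¹ᵁ X₀ ∧
      U₀ ≤ (e ≫ pullback.fst q (Spec.map (CommRingCat.ofHom σ) ≫ T.fromSpecStalk (q y))) ⁻¹ᵁ
        Y₀ := by
    have hmem : u ∈ (((f ≫ pullback.fst p (dHom (p x))) ⁻¹ᵁ X₀ ⊓
        (e ≫ pullback.fst q (Spec.map (CommRingCat.ofHom σ) ≫ T.fromSpecStalk (q y))) ⁻¹ᵁ Y₀ :
          U.Opens) : Set U) := by
      refine ⟨?_, ?_⟩
      · show (f ≫ pullback.fst p (dHom (p x))) u ∈ X₀
        rw [hfux]; exact hxX₀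
      · show (e ≫ pullback.fst q (Spec.map (CommRingCat.ofHom σ) ≫ T.fromSpecStalk (q y))) u ∈ Y₀
        rw [heuy]; exact hyY₀
    obtain ⟨_, ⟨V, hV, rfl⟩, hxV, hVU⟩ := U.isBasis_affineOpens.exists_subset_of_mem_open hmem
      ((f ≫ pullback.fst p (dHom (p x))) ⁻¹ᵁ X₀ ⊓
        (e ≫ pullback.fst q (Spec.map (CommRingCat.ofHom σ) ≫ T.fromSpecStalk (q y))) ⁻¹ᵁ Y₀ :
          U.Opens).2
    exact ⟨V, hV, hxV, fun z hz => (hVU hz).1, fun z hz => (hVU hz).2⟩
  -- the ring `R'`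
  obtain ⟨αS, hαS⟩ := exists_factor_affine (CommRingCat.of (Ahat (p x))) (dHom (p x)) S₀ hS₀
    (by rw [dHom_closedPoint]; exact hsS₀)
  obtain ⟨αT, hαT⟩ := exists_factor_affine (CommRingCat.of (Ahat (p x)))
    (Spec.map (CommRingCat.ofHom σ) ≫ T.fromSpecStalk (q y)) T₀ hT₀
    (by rw [hσTc]; exact htT₀)
  haveI : Algebra.FiniteType ℤ Γ(T, T₀) :=
    Groth.Agent.H25.finiteType_int_of_isAffineOpen T T₀ hT₀
  haveI : IsNoetherianRing Γ(S, S₀) := IsLocallyNoetherian.component_noetherian ⟨S₀, hS₀⟩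
  obtain ⟨R', iCR, iN, iAlg, iS, iT, hiS, hS, hT⟩ := exists_tensor_model αS.hom αT.hom
  let βS : Spec (CommRingCat.of R') ⟶ ↑S₀ := Spec.map (CommRingCat.ofHom iS) ≫ hS₀.isoSpec.inv
  let βT : Spec (CommRingCat.of R') ⟶ ↑T₀ := Spec.map (CommRingCat.ofHom iT) ≫ hT₀.isoSpec.inv
  haveI : LocallyOfFiniteType βS := by
    haveI : LocallyOfFiniteType (Spec.map (CommRingCat.ofHom iS)) := by
      rw [HasRingHomProperty.Spec_iff (P := @LocallyOfFiniteType)]; exact hiS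
    dsimp only [βS]; infer_instance
  have hδS : Spec.map (CommRingCat.ofHom (algebraMap R' (Ahat (p x)))) ≫ βS ≫ S₀.ι =
      dHom (p x) := by
    have h1 : Spec.map (CommRingCat.ofHom (algebraMap R' (Ahat (p x)))) ≫
        Spec.map (CommRingCat.ofHom iS) = Spec.map αS := by
      rw [← Spec.map_comp]
      congr 1
      exact CommRingCat.hom_ext hS
    simp only [βS, Category.assoc]
    rw [reassoc_of% h1]
    exact hαS
  have hδT : Spec.map (CommRingCat.ofHom (algebraMap R' (Ahat (p x)))) ≫ βT ≫ T₀.ι =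
      Spec.map (CommRingCat.ofHom σ) ≫ T.fromSpecStalk (q y) := by
    have h1 : Spec.map (CommRingCat.ofHom (algebraMap R' (Ahat (p x)))) ≫
        Spec.map (CommRingCat.ofHom iT) = Spec.map αT := by
      rw [← Spec.map_comp]
      congr 1
      exact CommRingCat.hom_ext hT
    simp only [βT, Category.assoc]
    rw [reassoc_of% h1]
    exact hαT
  -- the restricted morphisms
  haveI : IsAffine ↑U₀ := hU₀
  have hfe' : (U₀.ι ≫ f) ≫ pullback.snd p (dHom (p x)) =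
      (U₀.ι ≫ e) ≫ pullback.snd q (Spec.map (CommRingCat.ofHom σ) ≫ T.fromSpecStalk (q y)) := by
    rw [Category.assoc, Category.assoc, hfe]
  have hfX : Set.range ((U₀.ι ≫ f) ≫ pullback.fst p (dHom (p x))) ⊆ Set.range X₀.ι := by
    rw [Scheme.Opens.range_ι]
    rintro _ ⟨z, rfl⟩
    have := hUX z.2
    rw [Category.assoc, Scheme.Hom.comp_apply]
    exact this
  have heY : Set.range ((U₀.ι ≫ e) ≫
      pullback.fst q (Spec.map (CommRingCat.ofHom σ) ≫ T.fromSpecStalk (q y))) ⊆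
      Set.range Y₀.ι := by
    rw [Scheme.Opens.range_ι]
    rintro _ ⟨z, rfl⟩
    have := hUY z.2
    rw [Category.assoc, Scheme.Hom.comp_apply]
    exact this
  obtain ⟨u₀, hιu⟩ : ∃ u₀ : ↥(↑U₀ : Scheme.{u}), U₀.ι u₀ = u := ⟨⟨u, huU₀⟩, rfl⟩
  have hu₀ : ((U₀.ι ≫ f) ≫ pullback.snd p (dHom (p x))) u₀ = closedPoint (Ahat (p x)) := by
    rw [Scheme.Hom.comp_apply, Scheme.Hom.comp_apply, hιu, hfu, hw2]
  have hfres' : Function.Bijective ((U₀.ι ≫ f).residueFieldMap u₀) :=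
    bijective_comp U₀.ι f u₀ (bijective_of_isOpenImmersion _ _)
      (bijective_at f hιu.symm hfres)
  have heres' : Function.Bijective ((U₀.ι ≫ e).residueFieldMap u₀) :=
    bijective_comp U₀.ι e u₀ (bijective_of_isOpenImmersion _ _)
      (bijective_at e hιu.symm heres)
  obtain ⟨V, v, eV, τ, W, w, a, b, h1, h2, h3, h4, h5, h6, h7, h8, h9, h10, h11, h12⟩ :=
    exists_nbhds_of_common p q (p x) hG (Spec.map (CommRingCat.ofHom σ) ≫ T.fromSpecStalk (q y))
      S₀ hS₀ T₀ hT₀ X₀ hX₀ hXS Y₀ hY₀ hYT βS βT hδS hδT (U₀.ι ≫ f) (U₀.ι ≫ e) hfe' hfX heY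
      u₀ hu₀ hfres' heres'
  refine ⟨V, v, eV, τ, W, w, a, b, h1, h2, h3, h4.trans hσTc, h5, h6.trans ?_, h7, h8, h9,
    h10.trans ?_, h11, h12⟩
  · rw [Category.assoc, Scheme.Hom.comp_apply, hιu]; exact hfux
  · rw [Category.assoc, Scheme.Hom.comp_apply, hιu]; exact heuy

end Main

end Groth.Agent.H78.CAW
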